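import Cfsg.Agent.Omega.Quasithin.Row.E27
import Cfsg.Prelude.Def_Spor_Fi22
import Cfsg.Prelude.Def_Spor_Fi23
import Cfsg.Prelude.Def_Spor_Fi24
import Cfsg.Prelude.Def_Spor_B
import Cfsg.Prelude.Def_Spor_M
import Cfsg.Prelude.Def_Sporadic

/-!
# Table of S1731: the 3-rank of the groups presented on Coxeter diagrams `Y_pqr` is at least 3

Three disjoint edges of the diagram give three commuting elements of order 3.
-/

set_option autoImplicit false
set_option maxRecDepth 10000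

namespace Cfsg.Agent.Omega.Quasithin.Row.Cox

open Subgroup Cfsg.Spor Cfsg.Agent.Omega.Quasithin.Row.E27

/-- a walk in a Coxeter diagram -/
def walk {α : Type*} [DecidableEq α] (edges : List (α × ℕ × α)) : List α → List (α × α × α) → List α
  | ks, [] => ks
  | ks, (x, y, r) :: l =>
    if x ∈ ks ∧ y ∈ ks ∧ coxLabel edges y r = 3 ∧ coxLabel edges x r = 2 then walk edges (r :: ks) l else walk edges ks l

section

variable {α : Type*} [DecidableEq α] {edges : List (α × ℕ × α)} {extra : List (FreeGroup α)}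

theorem of_walk (hn : ∀ x : α, x ∈ coxNodes edges) {g : CoxPresented α edges extra} (l : List (α × α × α)) :
    ∀ ks : List α, (∀ x ∈ ks, (PresentedGroup.of x : CoxPresented α edges extra) = g) →
    ∀ x ∈ walk edges ks l, (PresentedGroup.of x : CoxPresented α edges extra) = g := by
  induction l with
  | nil => intro ks h x hx; exact h x hx
  | cons a l ih =>
    obtain ⟨x, y, r⟩ := a
    intro ks h
    rw [walk]
    split_ifs with hc
    · obtain ⟨hx, hy, h3, h2⟩ := hc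
      apply ih
      intro z hz
      rcases List.mem_cons.1 hz with rfl | hz
      · have h4 := step (P := (PresentedGroup.of x : CoxPresented α edges extra)) (Q := PresentedGroup.of y)
          (R := PresentedGroup.of z) (cox_sq (hn z)) ((h x hx).trans (h y hy).symm) (cox_three (hn y) (hn z) h3)
          (cox_comm (hn x) (hn z) h2) (cox_sq (hn y))
        rw [← h4]
        exact h y hy
      · exact h z hz
    · exact ih ks h

/-- joined nodes are different -/
theorem ne_of_walk (hn : ∀ x : α, x ∈ coxNodes edges) (hcard : ¬ ∀ a b : CoxPresented α edges extra, a * b = b * a) (p q : α)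
    (l : List (α × α × α)) (hl : ∀ x, x ∈ walk edges [p, q] l) :
    (PresentedGroup.of p : CoxPresented α edges extra) ≠ PresentedGroup.of q := by
  intro h
  refine absurd (comm_of_eq fun x => of_walk hn (g := PresentedGroup.of p) l [p, q] ?_ x (hl x)) hcard
  intro z hz
  simp only [List.mem_cons, List.not_mem_nil, or_false] at hz
  rcases hz with rfl | rfl
  · rfl
  · exact h.symm

/-- three disjoint edges of a Coxeter diagram -/
theorem not_rank_of_cox (hn : ∀ x : α, x ∈ coxNodes edges)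
    (hcard : ¬ ∀ a b : CoxPresented α edges extra, a * b = b * a) (p₁ q₁ p₂ q₂ p₃ q₃ : α)
    (e₁ : coxLabel edges p₁ q₁ = 3) (e₂ : coxLabel edges p₂ q₂ = 3) (e₃ : coxLabel edges p₃ q₃ = 3)
    (hc : ∀ x ∈ [p₁, q₁], ∀ y ∈ [p₂, q₂, p₃, q₃], coxLabel edges x y = 2)
    (hc' : ∀ x ∈ [p₂, q₂], ∀ y ∈ [p₃, q₃], coxLabel edges x y = 2)
    (l₁ l₂ l₃ : List (α × α × α)) (h₁ : ∀ x, x ∈ walk edges [p₁, q₁] l₁) (h₂ : ∀ x, x ∈ walk edges [p₂, q₂] l₂)
    (h₃ : ∀ x, x ∈ walk edges [p₃, q₃] l₃) (H : Subgroup (CoxPresented α edges extra)) [Finite H]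
    (m₁ : (PresentedGroup.of p₁ : CoxPresented α edges extra) * PresentedGroup.of q₁ ∈ H)
    (m₂ : (PresentedGroup.of p₂ : CoxPresented α edges extra) * PresentedGroup.of q₂ ∈ H)
    (m₃ : (PresentedGroup.of p₃ : CoxPresented α edges extra) * PresentedGroup.of q₃ ∈ H) : ¬ Cfsg.PRankLE 3 2 H := by
  refine not_rank_of_edges (cox_sq (hn q₁)) (cox_sq (hn p₂)) (cox_sq (hn q₂)) (cox_sq (hn p₃)) (cox_sq (hn q₃))
    (cox_three (hn _) (hn _) e₁) (cox_three (hn _) (hn _) e₂) (cox_three (hn _) (hn _) e₃)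
    (ne_of_walk hn hcard _ _ l₁ h₁) (ne_of_walk hn hcard _ _ l₂ h₂) (ne_of_walk hn hcard _ _ l₃ h₃)
    (cox_comm (hn _) (hn _) (hc _ (by simp) _ (by simp))) (cox_comm (hn _) (hn _) (hc _ (by simp) _ (by simp)))
    (cox_comm (hn _) (hn _) (hc _ (by simp) _ (by simp))) (cox_comm (hn _) (hn _) (hc _ (by simp) _ (by simp)))
    (cox_comm (hn _) (hn _) (hc _ (by simp) _ (by simp))) (cox_comm (hn _) (hn _) (hc _ (by simp) _ (by simp)))
    (cox_comm (hn _) (hn _) (hc _ (by simp) _ (by simp))) (cox_comm (hn _) (hn _) (hc _ (by simp) _ (by simp)))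
    (cox_comm (hn _) (hn _) (hc' _ (by simp) _ (by simp))) (cox_comm (hn _) (hn _) (hc' _ (by simp) _ (by simp)))
    (cox_comm (hn _) (hn _) (hc' _ (by simp) _ (by simp))) (cox_comm (hn _) (hn _) (hc' _ (by simp) _ (by simp)))
    H m₁ m₂ m₃

end

/-! ### the diagrams -/

theorem nodes_Fi22 (x : Fi22.Gen) : x ∈ coxNodes Fi22.edges := by cases x <;> decide

theorem Fi22_sub (hcard : ¬ ∀ a b : Fi22, a * b = b * a) (H : Subgroup Fi22) [Finite H]
    (m₁ : (PresentedGroup.of Fi22.Gen.a : Fi22) * PresentedGroup.of Fi22.Gen.b ∈ H)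
    (m₂ : (PresentedGroup.of Fi22.Gen.f : Fi22) * PresentedGroup.of Fi22.Gen.g ∈ H)
    (m₃ : (PresentedGroup.of Fi22.Gen.h : Fi22) * PresentedGroup.of Fi22.Gen.i ∈ H) : ¬ Cfsg.PRankLE 3 2 H :=
  not_rank_of_cox nodes_Fi22 hcard .a .b .f .g .h .i (by decide) (by decide) (by decide) (by decide)
    (by decide)
    [(.a, .b, .c), (.a, .c, .d), (.a, .d, .e), (.a, .d, .h), (.a, .e, .f), (.a, .h, .i), (.a, .f, .g)]
    [(.g, .f, .e), (.f, .e, .d), (.f, .d, .c), (.f, .d, .h), (.f, .c, .b), (.f, .h, .i), (.f, .b, .a)]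
    [(.i, .h, .d), (.h, .d, .c), (.h, .d, .e), (.h, .c, .b), (.h, .e, .f), (.h, .b, .a), (.h, .f, .g)]
    (fun x => by cases x <;> decide) (fun x => by cases x <;> decide) (fun x => by cases x <;> decide) H m₁ m₂ m₃

theorem Fi22_row [Finite Fi22] (hcard : ¬ ∀ a b : Fi22, a * b = b * a) : ¬ Cfsg.PRankLE 3 2 Fi22 := fun h =>
  Fi22_sub hcard ⊤ (mem_top _) (mem_top _) (mem_top _)
    (prank_of_injective (⊤ : Subgroup Fi22).subtype (Subgroup.subtype_injective _) h)

theorem nodes_Fi23 (x : Fi23.Gen) : x ∈ coxNodes Fi23.edges := by cases x <;> decide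

theorem Fi23_sub (hcard : ¬ ∀ a b : Fi23, a * b = b * a) (H : Subgroup Fi23) [Finite H]
    (m₁ : (PresentedGroup.of Fi23.Gen.a : Fi23) * PresentedGroup.of Fi23.Gen.b ∈ H)
    (m₂ : (PresentedGroup.of Fi23.Gen.f : Fi23) * PresentedGroup.of Fi23.Gen.g ∈ H)
    (m₃ : (PresentedGroup.of Fi23.Gen.h : Fi23) * PresentedGroup.of Fi23.Gen.i ∈ H) : ¬ Cfsg.PRankLE 3 2 H :=
  not_rank_of_cox nodes_Fi23 hcard .a .b .f .g .h .i (by decide) (by decide) (by decide) (by decide)
    (by decide)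
    [(.a, .b, .c), (.a, .c, .d), (.a, .d, .e), (.a, .d, .h), (.a, .e, .f), (.a, .h, .i), (.a, .f, .g), (.a, .g, .j)]
    [(.g, .f, .e), (.f, .g, .j), (.f, .e, .d), (.f, .d, .c), (.f, .d, .h), (.f, .c, .b), (.f, .h, .i), (.f, .b, .a)]
    [(.i, .h, .d), (.h, .d, .c), (.h, .d, .e), (.h, .c, .b), (.h, .e, .f), (.h, .b, .a), (.h, .f, .g), (.h, .g, .j)]
    (fun x => by cases x <;> decide) (fun x => by cases x <;> decide) (fun x => by cases x <;> decide) H m₁ m₂ m₃

theorem Fi23_row [Finite Fi23] (hcard : ¬ ∀ a b : Fi23, a * b = b * a) : ¬ Cfsg.PRankLE 3 2 Fi23 := fun h =>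
  Fi23_sub hcard ⊤ (mem_top _) (mem_top _) (mem_top _)
    (prank_of_injective (⊤ : Subgroup Fi23).subtype (Subgroup.subtype_injective _) h)

theorem nodes_Fi24 (x : Fi24.Gen) : x ∈ coxNodes Fi24.edges := by cases x <;> decide

theorem Fi24_sub (hcard : ¬ ∀ a b : Fi24, a * b = b * a) (H : Subgroup Fi24) [Finite H]
    (m₁ : (PresentedGroup.of Fi24.Gen.a : Fi24) * PresentedGroup.of Fi24.Gen.b ∈ H)
    (m₂ : (PresentedGroup.of Fi24.Gen.f : Fi24) * PresentedGroup.of Fi24.Gen.g ∈ H)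
    (m₃ : (PresentedGroup.of Fi24.Gen.h : Fi24) * PresentedGroup.of Fi24.Gen.i ∈ H) : ¬ Cfsg.PRankLE 3 2 H :=
  not_rank_of_cox nodes_Fi24 hcard .a .b .f .g .h .i (by decide) (by decide) (by decide) (by decide)
    (by decide)
    [(.b, .a, .k), (.a, .b, .c), (.a, .k, .l), (.a, .c, .d), (.a, .d, .e), (.a, .d, .h), (.a, .e, .f), (.a, .h, .i), (.a, .f, .g), (.a, .g, .j)]
    [(.g, .f, .e), (.f, .g, .j), (.f, .e, .d), (.f, .d, .c), (.f, .d, .h), (.f, .c, .b), (.f, .h, .i), (.f, .b, .a), (.f, .a, .k), (.f, .k, .l)]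
    [(.i, .h, .d), (.h, .d, .c), (.h, .d, .e), (.h, .c, .b), (.h, .e, .f), (.h, .b, .a), (.h, .f, .g), (.h, .a, .k), (.h, .g, .j), (.h, .k, .l)]
    (fun x => by cases x <;> decide) (fun x => by cases x <;> decide) (fun x => by cases x <;> decide) H m₁ m₂ m₃

theorem Fi24'_row [Finite Fi24'] (hcard : ¬ ∀ a b : Fi24, a * b = b * a) : ¬ Cfsg.PRankLE 3 2 Fi24' := by
  have hc : ∀ x y : Fi24.Gen, coxLabel Fi24.edges x y = 3 →
      (PresentedGroup.of x : Fi24) * PresentedGroup.of y ∈ commutator Fi24 := fun x y h =>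
    mul_mem_commutator (cox_sq (nodes_Fi24 x)) (cox_sq (nodes_Fi24 y)) (cox_three (nodes_Fi24 x) (nodes_Fi24 y) h)
  exact Fi24_sub hcard _ (hc _ _ (by decide)) (hc _ _ (by decide)) (hc _ _ (by decide))

theorem nodes_BabyMonster (x : BabyMonster.Gen) : x ∈ coxNodes BabyMonster.edges := by cases x <;> decide

theorem BabyMonster_sub (hcard : ¬ ∀ a b : BabyMonster, a * b = b * a) (H : Subgroup BabyMonster) [Finite H]
    (m₁ : (PresentedGroup.of BabyMonster.Gen.t1 : BabyMonster) * PresentedGroup.of BabyMonster.Gen.t2 ∈ H)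
    (m₂ : (PresentedGroup.of BabyMonster.Gen.t7 : BabyMonster) * PresentedGroup.of BabyMonster.Gen.t8 ∈ H)
    (m₃ : (PresentedGroup.of BabyMonster.Gen.t10 : BabyMonster) * PresentedGroup.of BabyMonster.Gen.t11 ∈ H) : ¬ Cfsg.PRankLE 3 2 H :=
  not_rank_of_cox nodes_BabyMonster hcard .t1 .t2 .t7 .t8 .t10 .t11 (by decide) (by decide) (by decide) (by decide)
    (by decide)
    [(.t1, .t2, .t3), (.t1, .t3, .t4), (.t1, .t4, .t5), (.t1, .t5, .t6), (.t1, .t5, .t9), (.t1, .t6, .t7), (.t1, .t9, .t10), (.t1, .t7, .t8), (.t1, .t10, .t11)]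
    [(.t8, .t7, .t6), (.t7, .t6, .t5), (.t7, .t5, .t4), (.t7, .t5, .t9), (.t7, .t4, .t3), (.t7, .t9, .t10), (.t7, .t3, .t2), (.t7, .t10, .t11), (.t7, .t2, .t1)]
    [(.t11, .t10, .t9), (.t10, .t9, .t5), (.t10, .t5, .t4), (.t10, .t5, .t6), (.t10, .t4, .t3), (.t10, .t6, .t7), (.t10, .t3, .t2), (.t10, .t7, .t8), (.t10, .t2, .t1)]
    (fun x => by cases x <;> decide) (fun x => by cases x <;> decide) (fun x => by cases x <;> decide) H m₁ m₂ m₃

theorem BabyMonster_row [Finite BabyMonster] (hcard : ¬ ∀ a b : BabyMonster, a * b = b * a) : ¬ Cfsg.PRankLE 3 2 BabyMonster := fun h =>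
  BabyMonster_sub hcard ⊤ (mem_top _) (mem_top _) (mem_top _)
    (prank_of_injective (⊤ : Subgroup BabyMonster).subtype (Subgroup.subtype_injective _) h)

theorem nodes_Bimonster (x : Bimonster.Gen) : x ∈ coxNodes Bimonster.edges := by cases x <;> decide

theorem Bimonster_sub (hcard : ¬ ∀ a b : Bimonster, a * b = b * a) (H : Subgroup Bimonster) [Finite H]
    (m₁ : (PresentedGroup.of Bimonster.Gen.c1 : Bimonster) * PresentedGroup.of Bimonster.Gen.d1 ∈ H)
    (m₂ : (PresentedGroup.of Bimonster.Gen.c2 : Bimonster) * PresentedGroup.of Bimonster.Gen.d2 ∈ H)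
    (m₃ : (PresentedGroup.of Bimonster.Gen.c3 : Bimonster) * PresentedGroup.of Bimonster.Gen.d3 ∈ H) : ¬ Cfsg.PRankLE 3 2 H :=
  not_rank_of_cox nodes_Bimonster hcard .c1 .d1 .c2 .d2 .c3 .d3 (by decide) (by decide) (by decide) (by decide)
    (by decide)
    [(.d1, .c1, .b1), (.c1, .d1, .e1), (.c1, .b1, .a), (.c1, .e1, .f1), (.c1, .a, .b2), (.c1, .a, .b3), (.c1, .b2, .c2), (.c1, .b3, .c3), (.c1, .c2, .d2), (.c1, .c3, .d3), (.c1, .d2, .e2), (.c1, .d3, .e3), (.c1, .e2, .f2), (.c1, .e3, .f3)]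
    [(.d2, .c2, .b2), (.c2, .d2, .e2), (.c2, .b2, .a), (.c2, .e2, .f2), (.c2, .a, .b1), (.c2, .a, .b3), (.c2, .b1, .c1), (.c2, .b3, .c3), (.c2, .c1, .d1), (.c2, .c3, .d3), (.c2, .d1, .e1), (.c2, .d3, .e3), (.c2, .e1, .f1), (.c2, .e3, .f3)]
    [(.d3, .c3, .b3), (.c3, .d3, .e3), (.c3, .b3, .a), (.c3, .e3, .f3), (.c3, .a, .b1), (.c3, .a, .b2), (.c3, .b1, .c1), (.c3, .b2, .c2), (.c3, .c1, .d1), (.c3, .c2, .d2), (.c3, .d1, .e1), (.c3, .d2, .e2), (.c3, .e1, .f1), (.c3, .e2, .f2)]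
    (fun x => by cases x <;> decide) (fun x => by cases x <;> decide) (fun x => by cases x <;> decide) H m₁ m₂ m₃

theorem Monster_row [Finite Monster] (hcard : ¬ ∀ a b : Bimonster, a * b = b * a) : ¬ Cfsg.PRankLE 3 2 Monster := by
  have hc : ∀ x y : Bimonster.Gen, coxLabel Bimonster.edges x y = 3 → coxLabel Bimonster.edges x .a = 2 →
      coxLabel Bimonster.edges y .a = 2 → (PresentedGroup.of x : Bimonster) * PresentedGroup.of y ∈
        Subgroup.centralizer {(PresentedGroup.of Bimonster.Gen.a : Bimonster)} ⊓ commutator Bimonster := by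
    intro x y h hx hy
    refine ⟨mul_mem (mem_centralizer_singleton_iff.2 (cox_comm (nodes_Bimonster x) (nodes_Bimonster _) hx))
      (mem_centralizer_singleton_iff.2 (cox_comm (nodes_Bimonster y) (nodes_Bimonster _) hy)), ?_⟩
    exact mul_mem_commutator (cox_sq (nodes_Bimonster x)) (cox_sq (nodes_Bimonster y))
      (cox_three (nodes_Bimonster x) (nodes_Bimonster y) h)
  exact Bimonster_sub hcard _ (hc _ _ (by decide) (by decide) (by decide)) (hc _ _ (by decide) (by decide) (by decide))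
    (hc _ _ (by decide) (by decide) (by decide))

/-! ### the rows, from order and simplicity -/

/-- a finite simple group of composite order is not commutative -/
theorem not_comm {G : Type*} [Group G] (hs : IsSimpleGroup G) (hp : ¬ (Nat.card G).Prime) :
    ¬ ∀ a b : G, a * b = b * a := by
  intro h
  have hG : IsMulCommutative G := ⟨⟨h⟩⟩
  exact hp (Group.is_simple_iff_prime_card.1 hs)

universe u

theorem row_fi22 (h : Cfsg.IsFi22 Fi22) (G : Type u) [Group G] [Finite G] (hG : IsoFi22 G) : ¬ Cfsg.PRankLE 3 2 G := by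
  obtain ⟨e⟩ := hG
  have hf : Finite Fi22 := Finite.of_equiv _ e.toEquiv
  intro h1
  refine Fi22_row (not_comm h.1 (by rw [h.2]; norm_num)) ?_
  exact prank_of_injective e.symm.toMonoidHom e.symm.injective h1

theorem row_fi23 (h : Cfsg.IsFi23 Fi23) (G : Type u) [Group G] [Finite G] (hG : IsoFi23 G) : ¬ Cfsg.PRankLE 3 2 G := by
  obtain ⟨e⟩ := hG
  have hf : Finite Fi23 := Finite.of_equiv _ e.toEquiv
  intro h1
  refine Fi23_row (not_comm h.1 (by rw [h.2]; norm_num)) ?_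
  exact prank_of_injective e.symm.toMonoidHom e.symm.injective h1

theorem row_b (h : Cfsg.IsB BabyMonster) (G : Type u) [Group G] [Finite G] (hG : IsoB G) : ¬ Cfsg.PRankLE 3 2 G := by
  obtain ⟨e⟩ := hG
  have hf : Finite BabyMonster := Finite.of_equiv _ e.toEquiv
  intro h1
  refine BabyMonster_row (not_comm h.1 (by rw [h.2]; norm_num)) ?_
  exact prank_of_injective e.symm.toMonoidHom e.symm.injective h1

/-- a group with nontrivial subgroup of its commutator subgroup is not commutative -/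
theorem not_comm_of_commutator {G : Type*} [Group G] {x : G} (hx : x ∈ commutator G) (h1 : x ≠ 1) :
    ¬ ∀ a b : G, a * b = b * a := by
  intro h
  apply h1
  have h2 : commutator G = ⊥ := by
    rw [_root_.commutator_def, commutator_eq_bot_iff_le_centralizer]
    intro a _
    rw [mem_centralizer_iff]
    exact fun b _ => h b a
  rw [h2, mem_bot] at hx
  exact hx

theorem row_fi24' (h : Cfsg.IsFi24' Fi24') (G : Type u) [Group G] [Finite G] (hG : IsoFi24' G) :
    ¬ Cfsg.PRankLE 3 2 G := by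
  obtain ⟨e⟩ := hG
  have hf : Finite Fi24' := Finite.of_equiv _ e.toEquiv
  have hs := h.1
  obtain ⟨x, hx⟩ := exists_ne (1 : Fi24')
  intro h1
  refine Fi24'_row (not_comm_of_commutator x.2 fun h2 => hx (Subtype.ext h2)) ?_
  exact prank_of_injective e.symm.toMonoidHom e.symm.injective h1

theorem row_m (h : Cfsg.IsM Monster) (G : Type u) [Group G] [Finite G] (hG : IsoM G) : ¬ Cfsg.PRankLE 3 2 G := by
  obtain ⟨e⟩ := hG
  have hf : Finite Monster := Finite.of_equiv _ e.toEquiv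
  have hs := h.1
  obtain ⟨x, hx⟩ := exists_ne (1 : Monster)
  intro h1
  refine Monster_row (not_comm_of_commutator x.2.2 fun h2 => hx (Subtype.ext h2)) ?_
  exact prank_of_injective e.symm.toMonoidHom e.symm.injective h1

end Cfsg.Agent.Omega.Quasithin.Row.Cox
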