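import Cfsg.Agent.Omega.Quasithin.Row.Base

/-!
# The row of the alternating groups in the table of S1731

`A_n`, `n ≥ 9`, contains an elementary abelian subgroup of order 27: the translations of the three lines of
`Fin 3 × ZMod 3`.
-/

set_option autoImplicit false

namespace Cfsg.Agent.Omega.Quasithin

open Cfsg

namespace AltRow

/-- translate the `i`-th line by `v i` -/
def tr (v : Fin 3 → ZMod 3) : Equiv.Perm (Fin 3 × ZMod 3) where
  toFun x := (x.1, x.2 + v x.1)
  invFun x := (x.1, x.2 - v x.1)
  left_inv x := by simp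
  right_inv x := by simp

/-- the homomorphism -/
def hom : Multiplicative (Fin 3 → ZMod 3) →* Equiv.Perm (Fin 3 × ZMod 3) where
  toFun v := tr v.toAdd
  map_one' := by
    ext x <;> simp [tr]
  map_mul' v w := by
    refine Equiv.ext fun x => Prod.ext rfl ?_
    change x.2 + (v.toAdd x.1 + w.toAdd x.1) = (x.2 + w.toAdd x.1) + v.toAdd x.1
    ring

theorem hom_injective : Function.Injective hom := by
  rw [injective_iff_map_eq_one]
  intro v hv
  apply Multiplicative.toAdd.injective
  funext i
  have h1 := congrArg Prod.snd (DFunLike.congr_fun hv ((i, 0) : Fin 3 × ZMod 3))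
  have h2 : (0 : ZMod 3) + v.toAdd i = 0 := h1
  rw [zero_add] at h2
  exact h2

end AltRow

theorem row_alt : ∀ n : ℕ, 9 ≤ n → ¬ PRankLE 3 2 (alternatingGroup (Fin n)) := by
  intro n hn
  have h3 : ∀ v : Fin 3 → ZMod 3, 3 • v = 0 := by decide
  have hc : Fintype.card (Fin 3 × ZMod 3) ≤ Fintype.card (Fin n) := by
    simpa using hn
  obtain ⟨ι⟩ := Function.Embedding.nonempty_of_card_le hc
  let g : Multiplicative (Fin 3 → ZMod 3) →* Equiv.Perm (Fin n) :=
    (Equiv.Perm.viaEmbeddingHom ι).comp AltRow.hom
  have hg : Function.Injective g := (Equiv.Perm.viaEmbeddingHom_injective ι).comp AltRow.hom_injective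
  have hmem : ∀ v, g v ∈ alternatingGroup (Fin n) := by
    intro v
    have h4 : v ^ 4 = v := by
      have : v ^ 3 = 1 := h3 v.toAdd
      rw [pow_succ, this, one_mul]
    rw [Equiv.Perm.mem_alternatingGroup, ← h4, map_pow, map_pow]
    rcases Int.units_eq_one_or (Equiv.Perm.sign (g v)) with h | h <;> rw [h] <;> rfl
  refine not_prankLE_of_hom h3 (g.codRestrict (alternatingGroup (Fin n)) hmem) ?_ ?_
  · intro a b hab
    exact hg (congrArg Subtype.val hab)
  · rw [Nat.card_eq_fintype_card]
    simp

end Cfsg.Agent.Omega.Quasithin
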