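import Cfsg.Agent.Omega.Quasithin.Row.E27

/-!
# Table of S1731: groups containing `A₉` or `A₁₂` have 3-rank at least 3
-/

set_option autoImplicit false
set_option maxRecDepth 10000

namespace Cfsg.Agent.Omega.Quasithin.Row.AltTwelve

open Subgroup Equiv Cfsg.Agent.Omega.Quasithin.Row.E27

theorem not_rank_A9 : ¬ Cfsg.PRankLE 3 2 (alternatingGroup (Fin 9)) := by
  refine not_rank_sub (G := Perm (Fin 9)) (x := swap 0 1 * swap 1 2) (y := swap 3 4 * swap 4 5) (w := swap 6 7 * swap 7 8)
    (b := swap 3 4) (c := swap 6 7) (by decide +kernel) (by decide +kernel) (by decide +kernel) (by decide +kernel)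
    (by decide +kernel) (by decide +kernel) (by decide +kernel) (by decide +kernel) (by decide +kernel)
    (by decide +kernel) (by decide +kernel) (by decide +kernel) (by decide +kernel) (by decide +kernel) _ ?_ ?_ ?_ <;>
  · rw [Perm.mem_alternatingGroup]; decide +kernel

theorem not_rank_A12 : ¬ Cfsg.PRankLE 3 2 (alternatingGroup (Fin 12)) := by
  refine not_rank_sub (G := Perm (Fin 12)) (x := swap 0 1 * swap 1 2) (y := swap 3 4 * swap 4 5) (w := swap 6 7 * swap 7 8)
    (b := swap 3 4) (c := swap 6 7) (by decide +kernel) (by decide +kernel) (by decide +kernel) (by decide +kernel)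
    (by decide +kernel) (by decide +kernel) (by decide +kernel) (by decide +kernel) (by decide +kernel)
    (by decide +kernel) (by decide +kernel) (by decide +kernel) (by decide +kernel) (by decide +kernel) _ ?_ ?_ ?_ <;>
  · rw [Perm.mem_alternatingGroup]; decide +kernel

end Cfsg.Agent.Omega.Quasithin.Row.AltTwelve
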