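import Cfsg.Prelude.Def_CaseTheorems
import Cfsg.Agent.ChevalleyStructure.Elts
import Cfsg.Agent.S1025
import Cfsg.Agent.S1026

/-!
# Three commuting root subgroups

`not_prankLE` : if three positive roots `r₁ < r₂ < r₃` of one of the seven data pairwise commute, then every subgroup
which contains the image of an injective additive map `A → F × F × F`, `|A| > p²`, has `p`-rank at least 3.
-/

set_option autoImplicit false

namespace Cfsg.Agent.Omega.Quasithin.Row.ChevBase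

open Cfsg Cfsg.Lie Cfsg.Agent.ChevalleyStructure.Elts

universe u

variable {F : Type u} [Field F] {D : ChevalleyDatum}

/-- The element `x_{r₁}(a) x_{r₂}(b) x_{r₃}(c)`. -/
def el (hD : InList D) (r₁ r₂ r₃ : ℕ) (v : F × F × F) : GL D.Idx F :=
  xG hD r₁ v.1 * (xG hD r₂ v.2.1 * xG hD r₃ v.2.2)

/-- The data of three commuting positive roots. -/
structure Three (D : ChevalleyDatum) (r₁ r₂ r₃ : ℕ) : Prop where
  filter : D.posRoots.filter (fun r => decide (r = r₁ ∨ r = r₂ ∨ r = r₃)) = [r₁, r₂, r₃]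
  c12 : D.commTerms r₁ r₂ = []
  c13 : D.commTerms r₁ r₃ = []
  c23 : D.commTerms r₂ r₃ = []
  lt12 : r₁ < r₂
  lt23 : r₂ < r₃
  n12 : r₂ ≠ D.neg r₁
  n13 : r₃ ≠ D.neg r₁
  n23 : r₃ ≠ D.neg r₂

theorem Three.pos {r₁ r₂ r₃ : ℕ} (h : Three D r₁ r₂ r₃) {r : ℕ} (hr : r = r₁ ∨ r = r₂ ∨ r = r₃) :
    D.IsPosRoot r := by
  have h1 : r ∈ D.posRoots.filter (fun r => decide (r = r₁ ∨ r = r₂ ∨ r = r₃)) := by
    rw [h.filter]
    simpa using hr
  have h2 := (List.mem_filter.1 h1).1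
  have h3 := (List.mem_filter.1 h2).2
  exact of_decide_eq_true h3

theorem comm_of_nil (hD : InList D) {r s : ℕ} (hr : r < D.nroots) (hs : s < D.nroots) (hrs : s ≠ r)
    (hneg : s ≠ D.neg r) (hc : D.commTerms r s = []) (t u : F) :
    xG hD s u * xG hD r t = xG hD r t * xG hD s u := by
  apply Units.ext
  have h := Cfsg.Agent.S1025.result D hD r s hr hs hrs hneg t u
  have h2 : D.commWord F r s t u = [] := by
    unfold ChevalleyDatum.commWord
    rw [hc]
    rfl
  rw [h2, wordMat_nil, mul_one] at h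
  exact h

variable {r₁ r₂ r₃ : ℕ}

theorem el_add (hD : InList D) (h : Three D r₁ r₂ r₃) (v w : F × F × F) :
    el hD r₁ r₂ r₃ (v + w) = el hD r₁ r₂ r₃ v * el hD r₁ r₂ r₃ w := by
  have p1 := (h.pos (Or.inl rfl)).1
  have p2 := (h.pos (Or.inr (Or.inl rfl))).1
  have p3 := (h.pos (Or.inr (Or.inr rfl))).1
  have l12 := h.lt12
  have l23 := h.lt23
  have c12 := fun t u => comm_of_nil (F := F) hD p1 p2 (by omega) h.n12 h.c12 t u
  have c13 := fun t u => comm_of_nil (F := F) hD p1 p3 (by omega) h.n13 h.c13 t u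
  have c23 := fun t u => comm_of_nil (F := F) hD p2 p3 (by omega) h.n23 h.c23 t u
  obtain ⟨a, b, c⟩ := v
  obtain ⟨a', b', c'⟩ := w
  simp only [el, Prod.fst_add, Prod.snd_add, ← xG_add]
  calc xG hD r₁ a * xG hD r₁ a' * (xG hD r₂ b * xG hD r₂ b' * (xG hD r₃ c * xG hD r₃ c'))
      = xG hD r₁ a * (xG hD r₁ a' * xG hD r₂ b) * (xG hD r₂ b' * xG hD r₃ c) * xG hD r₃ c' := by
        simp only [mul_assoc]
    _ = xG hD r₁ a * (xG hD r₂ b * xG hD r₁ a') * (xG hD r₃ c * xG hD r₂ b') * xG hD r₃ c' := by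
        rw [← c12 a' b, ← c23 b' c]
    _ = xG hD r₁ a * xG hD r₂ b * (xG hD r₁ a' * xG hD r₃ c) * xG hD r₂ b' * xG hD r₃ c' := by
        simp only [mul_assoc]
    _ = xG hD r₁ a * xG hD r₂ b * (xG hD r₃ c * xG hD r₁ a') * xG hD r₂ b' * xG hD r₃ c' := by
        rw [← c13 a' c]
    _ = _ := by simp only [mul_assoc]

theorem wordMat_filter (hD : InList D) (P : ℕ → Bool) (t : ℕ → F) (ht : ∀ r, P r = false → t r = 0) (l : List ℕ) :
    D.wordMat F (l.map fun r => (r, t r)) = D.wordMat F ((l.filter P).map fun r => (r, t r)) := by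
  induction l with
  | nil => rfl
  | cons r l ih =>
    by_cases hr : P r = true
    · rw [List.filter_cons_of_pos hr, List.map_cons, List.map_cons, wordMat_cons, wordMat_cons, ih]
    · rw [List.filter_cons_of_neg hr, List.map_cons, wordMat_cons, ih]
      have h0 : t r = 0 := ht r (by simpa using hr)
      simp only [h0]
      rw [x_zero hD, one_mul]

/-- The coefficient family of `el`. -/
def cf (r₁ r₂ r₃ : ℕ) (v : F × F × F) (r : ℕ) : F :=
  if r = r₁ then v.1 else if r = r₂ then v.2.1 else if r = r₃ then v.2.2 else 0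

theorem cf_one (v : F × F × F) : cf r₁ r₂ r₃ v r₁ = v.1 := if_pos rfl

theorem cf_two (h : r₁ < r₂) (v : F × F × F) : cf r₁ r₂ r₃ v r₂ = v.2.1 := by
  rw [cf, if_neg (by omega), if_pos rfl]

theorem cf_three (h : r₁ < r₂) (h' : r₂ < r₃) (v : F × F × F) : cf r₁ r₂ r₃ v r₃ = v.2.2 := by
  rw [cf, if_neg (by omega), if_neg (by omega), if_pos rfl]

theorem coe_el (hD : InList D) (h : Three D r₁ r₂ r₃) (v : F × F × F) :
    ((el hD r₁ r₂ r₃ v : GL D.Idx F) : Matrix D.Idx D.Idx F) =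
      D.wordMat F (D.posRoots.map fun r => (r, cf r₁ r₂ r₃ v r)) := by
  have l12 := h.lt12
  have l23 := h.lt23
  rw [wordMat_filter hD (fun r => decide (r = r₁ ∨ r = r₂ ∨ r = r₃)) (cf r₁ r₂ r₃ v) (by
    intro r hr
    have hr' := of_decide_eq_false hr
    push Not at hr'
    rw [cf, if_neg hr'.1, if_neg hr'.2.1, if_neg hr'.2.2]), h.filter]
  simp only [List.map_cons, List.map_nil, wordMat_cons, wordMat_nil, mul_one]
  rw [cf_one, cf_two l12, cf_three l12 l23]
  rfl

theorem el_mem_pos (hD : InList D) (h : Three D r₁ r₂ r₃) (v : F × F × F) :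
    el hD r₁ r₂ r₃ v ∈ D.posUnipotent F :=
  mul_mem (xG_mem_posUnipotent hD (h.pos (Or.inl rfl)) _)
    (mul_mem (xG_mem_posUnipotent hD (h.pos (Or.inr (Or.inl rfl))) _)
      (xG_mem_posUnipotent hD (h.pos (Or.inr (Or.inr rfl))) _))

theorem el_injective (hD : InList D) (h : Three D r₁ r₂ r₃) :
    Function.Injective (el (F := F) hD r₁ r₂ r₃) := by
  intro v w hvw
  have l12 := h.lt12
  have l23 := h.lt23
  have hs : ∀ v : F × F × F, ∀ r, ¬ D.IsPosRoot r → cf r₁ r₂ r₃ v r = 0 := by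
    intro v r hr
    rw [cf, if_neg (fun h' => hr (h.pos (Or.inl h'))), if_neg (fun h' => hr (h.pos (Or.inr (Or.inl h')))),
      if_neg (fun h' => hr (h.pos (Or.inr (Or.inr h'))))]
  obtain ⟨t, _, hu⟩ := (Cfsg.Agent.S1026.result (F := F) D hD).1 (el hD r₁ r₂ r₃ v) (el_mem_pos hD h v)
  have h1 := hu (cf r₁ r₂ r₃ v) ⟨hs v, coe_el hD h v⟩
  have h2 := hu (cf r₁ r₂ r₃ w) ⟨hs w, by rw [hvw]; exact coe_el hD h w⟩
  have h3 : cf r₁ r₂ r₃ v = cf r₁ r₂ r₃ w := h1.trans h2.symm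
  have e1 := congrFun h3 r₁
  have e2 := congrFun h3 r₂
  have e3 := congrFun h3 r₃
  rw [cf_one, cf_one] at e1
  rw [cf_two l12, cf_two l12] at e2
  rw [cf_three l12 l23, cf_three l12 l23] at e3
  exact Prod.ext e1 (Prod.ext e2 e3)

theorem el_zero (hD : InList D) : el (F := F) hD r₁ r₂ r₃ 0 = 1 := by
  simp only [el, Prod.fst_zero, Prod.snd_zero, xG_zero, mul_one]

theorem el_nsmul (hD : InList D) (h : Three D r₁ r₂ r₃) (v : F × F × F) (n : ℕ) :
    el hD r₁ r₂ r₃ v ^ n = el hD r₁ r₂ r₃ (n • v) := by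
  induction n with
  | zero => rw [pow_zero, zero_nsmul, el_zero]
  | succ n ih => rw [pow_succ, ih, succ_nsmul, el_add hD h]

/-- **The criterion.** -/
theorem not_prankLE (hD : InList D) (h : Three D r₁ r₂ r₃) (p : ℕ) [CharP F p] {Γ : Subgroup (GL D.Idx F)}
    {A : Type*} [AddCommGroup A] (φ : A →+ F × F × F) (hφ : Function.Injective φ)
    (hmem : ∀ a, el hD r₁ r₂ r₃ (φ a) ∈ Γ) (hcard : p ^ 2 < Nat.card A) : ¬ PRankLE p 2 Γ := by
  intro hr
  let f : Multiplicative A →* Γ :=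
    { toFun := fun a => ⟨el hD r₁ r₂ r₃ (φ a.toAdd), hmem _⟩
      map_one' := Subtype.ext (by
        change el hD r₁ r₂ r₃ (φ 0) = 1
        rw [map_zero, el_zero])
      map_mul' := fun a b => Subtype.ext (by
        change el hD r₁ r₂ r₃ (φ (a.toAdd + b.toAdd)) = _
        rw [map_add, el_add hD h]
        rfl) }
  have hf : Function.Injective f := by
    intro a b hab
    have h1 : el hD r₁ r₂ r₃ (φ a.toAdd) = el hD r₁ r₂ r₃ (φ b.toAdd) := congrArg Subtype.val hab
    exact hφ (el_injective hD h h1)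
  have h1 := hr f.range ⟨⟨by
    rintro ⟨_, a, rfl⟩ ⟨_, b, rfl⟩
    apply Subtype.ext
    change f a * f b = f b * f a
    rw [← map_mul, ← map_mul, mul_comm]⟩⟩ (by
    rintro _ ⟨a, rfl⟩
    rw [← map_pow]
    have : a ^ p = 1 := by
      have h2 : p • a.toAdd = 0 := by
        apply hφ
        rw [map_nsmul, map_zero]
        refine Prod.ext ?_ (Prod.ext ?_ ?_)
        · change p • (φ a.toAdd).1 = 0
          rw [nsmul_eq_mul, CharP.cast_eq_zero, zero_mul]
        · change p • (φ a.toAdd).2.1 = 0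
          rw [nsmul_eq_mul, CharP.cast_eq_zero, zero_mul]
        · change p • (φ a.toAdd).2.2 = 0
          rw [nsmul_eq_mul, CharP.cast_eq_zero, zero_mul]
      exact h2
    rw [this, map_one])
  have h2 : Nat.card f.range = Nat.card A := by
    rw [Nat.card_congr (MonoidHom.ofInjective hf).symm.toEquiv]
    rfl
  omega

end Cfsg.Agent.Omega.Quasithin.Row.ChevBase
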