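import Cfsg.Agent.Omega.Quasithin.Rows
import Cfsg.Agent.Omega.Quasithin.Row.ChevBase

/-!
# Rows `chev`, `twisted`, `ree` of the table for S1731
-/

set_option autoImplicit false

namespace Cfsg.Agent.Omega.Quasithin.Row.Chev

open Cfsg Cfsg.Lie Cfsg.Agent.ChevalleyStructure.Elts Cfsg.Agent.Omega.Quasithin.Row.ChevBase

universe u

theorem three_G2 : Three chevG2 9 10 11 where
  filter := by decide +kernel
  c12 := by decide +kernel
  c13 := by decide +kernel
  c23 := by decide +kernel
  lt12 := by norm_num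
  lt23 := by norm_num
  n12 := by decide +kernel
  n13 := by decide +kernel
  n23 := by decide +kernel

theorem three_F4 : Three chevF4 45 46 47 where
  filter := by decide +kernel
  c12 := by decide +kernel
  c13 := by decide +kernel
  c23 := by decide +kernel
  lt12 := by norm_num
  lt23 := by norm_num
  n12 := by decide +kernel
  n13 := by decide +kernel
  n23 := by decide +kernel

theorem three_E6 : Three chevE6 69 70 71 where
  filter := by decide +kernel
  c12 := by decide +kernel
  c13 := by decide +kernel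
  c23 := by decide +kernel
  lt12 := by norm_num
  lt23 := by norm_num
  n12 := by decide +kernel
  n13 := by decide +kernel
  n23 := by decide +kernel

theorem three_E7 : Three chevE7 123 124 125 where
  filter := by decide +kernel
  c12 := by decide +kernel
  c13 := by decide +kernel
  c23 := by decide +kernel
  lt12 := by norm_num
  lt23 := by norm_num
  n12 := by decide +kernel
  n13 := by decide +kernel
  n23 := by decide +kernel

theorem three_E8 : Three chevE8 237 238 239 where
  filter := by decide +kernel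
  c12 := by decide +kernel
  c13 := by decide +kernel
  c23 := by decide +kernel
  lt12 := by norm_num
  lt23 := by norm_num
  n12 := by decide +kernel
  n13 := by decide +kernel
  n23 := by decide +kernel

/-- ³D₄: the roots `p₄, p₃, p₁`. -/
theorem three_D4 : Three chevD4 12 13 18 where
  filter := by decide +kernel
  c12 := by decide +kernel
  c13 := by decide +kernel
  c23 := by decide +kernel
  lt12 := by norm_num
  lt23 := by norm_num
  n12 := by decide +kernel
  n13 := by decide +kernel
  n23 := by decide +kernel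

/-- ²E₆: the roots `p₆, p₂, p₁`. -/
theorem three_E6' : Three chevE6 36 46 56 where
  filter := by decide +kernel
  c12 := by decide +kernel
  c13 := by decide +kernel
  c23 := by decide +kernel
  lt12 := by norm_num
  lt23 := by norm_num
  n12 := by decide +kernel
  n13 := by decide +kernel
  n23 := by decide +kernel

theorem lt_cube {p n : ℕ} (hp : p.Prime) (h : p ^ 3 ≤ n) : p ^ 2 < n :=
  lt_of_lt_of_le (Nat.pow_lt_pow_right hp.one_lt (by norm_num)) h

theorem card_ge {F : Type*} [Field F] [Fintype F] {p : ℕ} (hp : p.Prime) [CharP F p] : p ≤ Fintype.card F := by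
  have : Fact p.Prime := ⟨hp⟩
  obtain ⟨n, _, hn⟩ := FiniteField.card F p
  rw [hn]
  exact Nat.le_self_pow n.pos.ne' p

/-- The untwisted groups. -/
theorem not_chev {D : ChevalleyDatum} (hD : InList D) {r₁ r₂ r₃ : ℕ} (h : Three D r₁ r₂ r₃) {F : Type*} [Field F]
    [Fintype F] {p : ℕ} (hp : p.Prime) [CharP F p] : ¬ PRankLE p 2 (D.group F) := by
  refine not_prankLE hD h p (A := F × F × F) (AddMonoidHom.id _) Function.injective_id (fun a => ?_) ?_
  · exact mul_mem (xG_mem_group hD _ _) (mul_mem (xG_mem_group hD _ _) (xG_mem_group hD _ _))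
  · have h1 := card_ge (F := F) hp
    apply lt_cube hp
    rw [Nat.card_prod, Nat.card_prod, Nat.card_eq_fintype_card]
    calc p ^ 3 = p * (p * p) := by ring
      _ ≤ _ := Nat.mul_le_mul h1 (Nat.mul_le_mul h1 h1)

theorem mem_gen {D : ChevalleyDatum} {F : Type*} [Field F] (hD : InList D) {S : Set (List (ℕ × F))} {w : List (ℕ × F)}
    (hw : w ∈ S) : wordG hD w ∈ D.genSubgroup F S :=
  Subgroup.subset_closure ⟨w, hw, coe_wordG hD w⟩

/-- A prime power which divides the order of a field of characteristic `p` up to powers is a power of `p`. -/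
theorem exists_pow {K : Type*} [Field K] [Fintype K] {p q k : ℕ} (hp : p.Prime) [CharP K p] (hq : IsPrimePow q)
    (hk : k ≠ 0) (hc : Fintype.card K = q ^ k) : ∃ n, 0 < n ∧ q = p ^ n := by
  have : Fact p.Prime := ⟨hp⟩
  obtain ⟨m, _, hm⟩ := FiniteField.card K p
  obtain ⟨l, n, hl, hn, rfl⟩ := hq
  have h1 : l ∣ p ^ (m : ℕ) := by
    rw [← hm, hc, ← pow_mul]
    exact dvd_pow_self l (Nat.mul_ne_zero hn.ne' hk)
  have h2 : l ∣ p := hl.dvd_of_dvd_pow h1
  have h3 : l = p := (Nat.prime_dvd_prime_iff_eq hl.nat_prime hp).1 h2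
  exact ⟨n, hn, by rw [h3]⟩

theorem not_twistedD4 {K : Type*} [Field K] [Fintype K] {p q : ℕ} (hp : p.Prime) [CharP K p] (hq : IsPrimePow q)
    (hc : Fintype.card K = q ^ 3) : ¬ PRankLE p 2 (twistedD4 K q) := by
  have : Fact p.Prime := ⟨hp⟩
  obtain ⟨n, hn, hqn⟩ := exists_pow hp hq (by norm_num) hc
  have hD : InList chevD4 := by simp only [InList, List.mem_cons, true_or, or_true]
  let φ : K →+ K × K × K :=
    (((iterateFrobenius K p n).comp (iterateFrobenius K p n)).toAddMonoidHom).prod
      ((iterateFrobenius K p n).toAddMonoidHom.prod (AddMonoidHom.id K))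
  have hφ : ∀ t, φ t = (t ^ (q ^ 2), t ^ q, t) := by
    intro t
    refine Prod.ext ?_ (Prod.ext ?_ rfl)
    · change iterateFrobenius K p n (iterateFrobenius K p n t) = _
      rw [iterateFrobenius_def, iterateFrobenius_def, ← hqn, ← pow_mul, pow_two]
    · change iterateFrobenius K p n t = _
      rw [iterateFrobenius_def, ← hqn]
  refine not_prankLE hD three_D4 p φ (fun a b hab => ?_) (fun t => ?_) ?_
  · rw [hφ, hφ] at hab
    exact congrArg (fun v : K × K × K => v.2.2) hab
  · rw [hφ]
    have h1 : wordG hD [(18, t), (13, t ^ q), (12, t ^ (q ^ 2))] ∈ twistedD4 K q := by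
      apply mem_gen hD
      right
      exact ⟨t, (d4p1, d4p3, d4p4), by simp, rfl⟩
    have h2 : el hD 12 13 18 (t ^ (q ^ 2), t ^ q, t) = wordG hD [(18, t), (13, t ^ q), (12, t ^ (q ^ 2))] := by
      have h := three_D4
      have c12 := fun t u => comm_of_nil (F := K) hD (h.pos (Or.inl rfl)).1 (h.pos (Or.inr (Or.inl rfl))).1
        (by norm_num) h.n12 h.c12 t u
      have c13 := fun t u => comm_of_nil (F := K) hD (h.pos (Or.inl rfl)).1 (h.pos (Or.inr (Or.inr rfl))).1
        (by norm_num) h.n13 h.c13 t u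
      have c23 := fun t u => comm_of_nil (F := K) hD (h.pos (Or.inr (Or.inl rfl))).1 (h.pos (Or.inr (Or.inr rfl))).1
        (by norm_num) h.n23 h.c23 t u
      simp only [wordG_cons, wordG_nil, mul_one, el]
      rw [← mul_assoc, ← c12, mul_assoc, ← c13, ← mul_assoc, ← c23, mul_assoc]
    rw [h2]
    exact h1
  · apply lt_cube hp
    rw [Nat.card_eq_fintype_card, hc, hqn]
    exact Nat.pow_le_pow_left (Nat.le_self_pow hn.ne' p) 3

theorem not_twistedE6 {K : Type*} [Field K] [Fintype K] {p q : ℕ} (hp : p.Prime) [CharP K p] (hq : IsPrimePow q)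
    (hc : Fintype.card K = q ^ 2) : ¬ PRankLE p 2 (twistedE6 K q) := by
  have : Fact p.Prime := ⟨hp⟩
  obtain ⟨n, hn, hqn⟩ := exists_pow hp hq (by norm_num) hc
  have hD : InList chevE6 := by simp only [InList, List.mem_cons, true_or, or_true]
  let φ : K × ZMod p →+ K × K × K :=
    ((iterateFrobenius K p n).toAddMonoidHom.comp (AddMonoidHom.fst K (ZMod p))).prod
      (((ZMod.castHom (dvd_refl p) K).toAddMonoidHom.comp (AddMonoidHom.snd K (ZMod p))).prod
        (AddMonoidHom.fst K (ZMod p)))
  have hφ : ∀ a, φ a = (a.1 ^ q, ZMod.castHom (dvd_refl p) K a.2, a.1) := by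
    intro t
    refine Prod.ext ?_ (Prod.ext rfl rfl)
    change iterateFrobenius K p n t.1 = _
    rw [iterateFrobenius_def, ← hqn]
  refine not_prankLE hD three_E6' p φ (fun a b hab => ?_) (fun a => ?_) ?_
  · rw [hφ, hφ] at hab
    have h1 : a.1 = b.1 := congrArg (fun v : K × K × K => v.2.2) hab
    have h2 : ZMod.castHom (dvd_refl p) K a.2 = ZMod.castHom (dvd_refl p) K b.2 :=
      congrArg (fun v : K × K × K => v.2.1) hab
    exact Prod.ext h1 (RingHom.injective _ h2)
  · rw [hφ]
    obtain ⟨t, m⟩ := a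
    have hm : (ZMod.castHom (dvd_refl p) K m) ^ q = ZMod.castHom (dvd_refl p) K m := by
      rw [← map_pow, hqn, ZMod.pow_card_pow]
    have h1 : wordG hD [(56, t), (36, t ^ q)] ∈ twistedE6 K q := by
      apply mem_gen hD
      right
      exact ⟨t, (e6p1, e6p6), by simp, rfl⟩
    have h3 : wordG hD [(46, ZMod.castHom (dvd_refl p) K m)] ∈ twistedE6 K q := by
      apply mem_gen hD
      left
      exact ⟨_, hm, e6p2, by simp, rfl⟩
    have h2 : el hD 36 46 56 (t ^ q, ZMod.castHom (dvd_refl p) K m, t) =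
        wordG hD [(56, t), (36, t ^ q)] * wordG hD [(46, ZMod.castHom (dvd_refl p) K m)] := by
      have h := three_E6'
      have c13 := fun t u => comm_of_nil (F := K) hD (h.pos (Or.inl rfl)).1 (h.pos (Or.inr (Or.inr rfl))).1
        (by norm_num) h.n13 h.c13 t u
      have c23 := fun t u => comm_of_nil (F := K) hD (h.pos (Or.inr (Or.inl rfl))).1 (h.pos (Or.inr (Or.inr rfl))).1
        (by norm_num) h.n23 h.c23 t u
      simp only [wordG_cons, wordG_nil, mul_one, el]
      rw [c13, mul_assoc, c23]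
    rw [h2]
    exact mul_mem h1 h3
  · apply lt_cube hp
    rw [Nat.card_prod, Nat.card_eq_fintype_card, hc, Nat.card_zmod]
    calc p ^ 3 = p ^ 2 * p := by ring
      _ ≤ _ := Nat.mul_le_mul_right p (Nat.pow_le_pow_left (by rw [hqn]; exact Nat.le_self_pow hn.ne' p) 2)

theorem not_ree {K : Type*} [Field K] [Fintype K] {m : ℕ} (hm : 1 ≤ m) (hc : Fintype.card K = 3 ^ (2 * m + 1)) :
    ¬ PRankLE 3 2 (twistedG2 K (3 ^ m)) := by
  have : Fact (Nat.Prime 3) := ⟨Nat.prime_three⟩
  have hch : CharP K 3 := charP_of_card_eq_prime_pow hc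
  have hD : InList chevG2 := by simp only [InList, List.mem_cons, true_or]
  let φ : K →+ K × K × K :=
    (iterateFrobenius K 3 m).toAddMonoidHom.prod ((0 : K →+ K).prod (AddMonoidHom.id K))
  have hφ : ∀ t, φ t = (t ^ (3 ^ m), 0, t) := by
    intro t
    refine Prod.ext ?_ (Prod.ext rfl rfl)
    change iterateFrobenius K 3 m t = _
    rw [iterateFrobenius_def]
  refine not_prankLE hD three_G2 3 φ (fun a b hab => ?_) (fun t => ?_) ?_
  · rw [hφ, hφ] at hab
    exact congrArg (fun v : K × K × K => v.2.2) hab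
  · rw [hφ]
    have h1 : wordG hD (reeWordU (3 ^ m) (0 : K) 0 t) ∈ twistedG2 K (3 ^ m) := by
      apply mem_gen hD
      exact ⟨0, 0, t, Or.inl rfl⟩
    have h2 : el hD 9 10 11 (t ^ (3 ^ m), 0, t) = wordG hD (reeWordU (3 ^ m) (0 : K) 0 t) := by
      have hne : 3 ^ m ≠ 0 := by positivity
      simp only [reeWordU, wordG_cons, wordG_nil, mul_one, el]
      rw [zero_pow hne, zero_pow (Nat.succ_ne_zero _), zero_pow (Nat.succ_ne_zero _)]
      simp only [zero_add, xG_zero, one_mul]
      rfl
    rw [h2]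
    exact h1
  · rw [Nat.card_eq_fintype_card, hc]
    exact Nat.pow_lt_pow_right (by norm_num) (by omega)

/-- **Row `chev`.** -/
theorem row_chev : LieRow.{u} (fun p X _ => IsExceptionalChevChar p X) := by
  intro p hp _ G _ _ h hr
  exfalso
  obtain ⟨F, iF, iFt, ic, h⟩ := h
  rcases h with ⟨_, ⟨e⟩⟩ | ⟨⟨e⟩⟩ | ⟨⟨e⟩⟩ | ⟨⟨e⟩⟩ | ⟨⟨e⟩⟩
  · exact not_chev (by simp only [InList, List.mem_cons, true_or]) three_G2 hp (prankLE_congr e hr)
  · exact not_chev (by simp only [InList, List.mem_cons, true_or, or_true]) three_F4 hp (prankLE_congr e hr)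
  · exact not_chev (by simp only [InList, List.mem_cons, true_or, or_true]) three_E6 hp (prankLE_congr e hr)
  · exact not_chev (by simp only [InList, List.mem_cons, true_or, or_true]) three_E7 hp (prankLE_congr e hr)
  · exact not_chev (by simp only [InList, List.mem_cons, true_or, or_true]) three_E8 hp (prankLE_congr e hr)

/-- **Row `twisted`.** -/
theorem row_twisted : LieRow.{u} (fun p X _ => IsTwistedE6D4Char p X) := by
  intro p hp _ G _ _ h hr
  exfalso
  obtain ⟨K, iK, iKt, ic, q, hq, h⟩ := h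
  rcases h with ⟨hc, ⟨e⟩⟩ | ⟨hc, ⟨e⟩⟩
  · exact not_twistedE6 hp hq hc (prankLE_congr e hr)
  · exact not_twistedD4 hp hq hc (prankLE_congr e hr)

/-- **Row `ree`.** -/
theorem row_ree : LieRow.{u} (fun p X _ => p = 3 ∧ Lie.IsoRee X) := by
  rintro p hp _ G _ _ ⟨rfl, K, iK, iKt, m, hm, hc, ⟨e⟩⟩ hr
  exact absurd (prankLE_congr e hr) (not_ree hm hc)

end Cfsg.Agent.Omega.Quasithin.Row.Chev
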