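import Mathlib
import Cfsg.Prelude.Def_CaseTheorems
import Cfsg.Prelude.Def_SporCoxeter

/-!
# Table of S1731: criterion for 3-rank at least 3
-/

set_option autoImplicit false

namespace Cfsg.Agent.Omega.Quasithin.Row.E27

open Subgroup
open scoped commutatorElement

variable {G : Type*} [Group G]

/-- Elements of a commutative group generated by elements of exponent 3 have exponent 3. -/
theorem pow_closure {s : Set G} (hc : ∀ x ∈ s, ∀ y ∈ s, x * y = y * x) (h3 : ∀ x ∈ s, x ^ 3 = 1) :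
    (∀ x ∈ closure s, ∀ y ∈ closure s, x * y = y * x) ∧ ∀ x ∈ closure s, x ^ 3 = 1 := by
  have h1 : ∀ x ∈ closure s, ∀ y ∈ closure s, x * y = y * x := by
    have h2 : closure s ≤ centralizer (s : Set G) := by
      rw [closure_le]
      intro x hx
      rw [SetLike.mem_coe, mem_centralizer_iff]
      exact fun y hy => hc y hy x hx
    have h3 : closure s ≤ centralizer (closure s : Set G) := by
      rw [closure_le]
      intro x hx
      rw [SetLike.mem_coe, mem_centralizer_iff]
      intro y hy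
      exact ((mem_centralizer_iff.1 (h2 hy)) x hx).symm
    intro x hx y hy
    exact (mem_centralizer_iff.1 (h3 hy)) x hx
  refine ⟨h1, fun x hx => ?_⟩
  induction hx using closure_induction with
  | mem x hx => exact h3 x hx
  | one => exact one_pow 3
  | mul x y hx hy ih1 ih2 =>
    have : Commute x y := h1 x hx y hy
    rw [this.mul_pow, ih1, ih2, one_mul]
  | inv x hx ih => rw [inv_pow, ih, inv_one]

theorem three_mul_card_le {A B : Subgroup G} [Finite B] (hB : IsPGroup 3 B) (h : A < B) : 3 * Nat.card A ≤ Nat.card B := by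
  have : Fact (Nat.Prime 3) := ⟨Nat.prime_three⟩
  have h1 : Nat.card (A.subgroupOf B) * (A.subgroupOf B).index = Nat.card B := Subgroup.card_mul_index _
  rw [Nat.card_congr (Subgroup.subgroupOfEquivOfLe h.le).toEquiv] at h1
  obtain ⟨n, hn⟩ := hB.index (A.subgroupOf B)
  have h2 : n ≠ 0 := by
    rintro rfl
    rw [pow_zero, index_eq_one, subgroupOf_eq_top] at hn
    exact h.not_ge hn
  have h3 : 3 ≤ (A.subgroupOf B).index := by
    rw [hn]
    calc 3 = 3 ^ 1 := (pow_one 3).symm
      _ ≤ 3 ^ n := Nat.pow_le_pow_right (by norm_num) (Nat.one_le_iff_ne_zero.2 h2)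
  rw [← h1, mul_comm]
  exact Nat.mul_le_mul_left _ h3

/-- **Criterion.** Three commuting elements of order 3, such that some `b` commutes with `x` and inverts `y` and some `c`
commutes with `x` and `y` and inverts `w`. -/
theorem not_rank_sub {x y w b c : G} (hx : x ^ 3 = 1) (hy : y ^ 3 = 1) (hw : w ^ 3 = 1)
    (hx1 : x ≠ 1) (hy1 : y ≠ 1) (hw1 : w ≠ 1) (hxy : x * y = y * x) (hxw : x * w = w * x) (hyw : y * w = w * y)
    (hbx : b * x * b⁻¹ = x) (hby : b * y * b⁻¹ = y⁻¹) (hcx : c * x * c⁻¹ = x) (hcy : c * y * c⁻¹ = y)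
    (hcw : c * w * c⁻¹ = w⁻¹) (H : Subgroup G) [Finite H] (hxH : x ∈ H) (hyH : y ∈ H) (hwH : w ∈ H) :
    ¬ Cfsg.PRankLE 3 2 H := by
  intro h
  have hsq : ∀ g : G, g ^ 3 = 1 → g = g⁻¹ → g = 1 := by
    intro g h3 h2
    have h4 : g * g = 1 := by nth_rewrite 2 [h2]; exact mul_inv_cancel g
    rw [pow_succ, pow_two, h4, one_mul] at h3
    exact h3
  -- conjugation fixes closures
  have hfix : ∀ (k : G) (s : Set G), (∀ z ∈ s, k * z * k⁻¹ = z) → ∀ z ∈ closure s, k * z * k⁻¹ = z := by
    intro k s hs z hz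
    induction hz using closure_induction with
    | mem z hz => exact hs z hz
    | one => group
    | mul z z' _ _ ih1 ih2 =>
      calc k * (z * z') * k⁻¹ = (k * z * k⁻¹) * (k * z' * k⁻¹) := by group
        _ = z * z' := by rw [ih1, ih2]
    | inv z _ ih =>
      calc k * z⁻¹ * k⁻¹ = (k * z * k⁻¹)⁻¹ := by group
        _ = z⁻¹ := by rw [ih]
  let A₁ : Subgroup G := closure {x}
  let A₂ : Subgroup G := closure {x, y}
  let A₃ : Subgroup G := closure {x, y, w}
  obtain ⟨hc, h3⟩ := pow_closure (s := ({x, y, w} : Set G)) (by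
    rintro p (rfl | rfl | rfl) q (rfl | rfl | rfl) <;> first | rfl | assumption | (symm; assumption)) (by
    rintro p (rfl | rfl | rfl) <;> assumption)
  have h12 : A₁ ≤ A₂ := closure_mono (by simp)
  have h23 : A₂ ≤ A₃ := closure_mono (by
    rintro p (rfl | rfl) <;> simp)
  have hp : IsPGroup 3 A₃ := fun z => ⟨1, Subtype.ext (by simpa using h3 z.1 z.2)⟩
  have hlt0 : (⊥ : Subgroup G) < A₁ := by
    rw [bot_lt_iff_ne_bot]
    intro h0
    apply hx1
    rw [← mem_bot, ← h0]
    exact subset_closure rfl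
  have hlt1 : A₁ < A₂ := by
    refine lt_of_le_of_ne h12 fun he => ?_
    have hy2 : y ∈ A₁ := by rw [he]; exact subset_closure (by simp)
    have h4 := hfix b {x} (by rintro z rfl; exact hbx) y hy2
    rw [hby] at h4
    exact hy1 (hsq y hy h4.symm)
  have hlt2 : A₂ < A₃ := by
    refine lt_of_le_of_ne h23 fun he => ?_
    have hw2 : w ∈ A₂ := by rw [he]; exact subset_closure (by simp)
    have h4 := hfix c {x, y} (by rintro z (rfl | rfl) <;> assumption) w hw2
    rw [hcw] at h4
    exact hw1 (hsq w hw h4.symm)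
  have hAH : A₃ ≤ H := by
    rw [closure_le]
    rintro p (rfl | rfl | rfl) <;> assumption
  have f3 : Finite A₃ := Finite.of_injective _ (Subgroup.inclusion_injective hAH)
  have f2 : Finite A₂ := Finite.of_injective _ (Subgroup.inclusion_injective h23)
  have f1 : Finite A₁ := Finite.of_injective _ (Subgroup.inclusion_injective h12)
  have e0 := three_mul_card_le (hp.to_le (h12.trans h23)) hlt0
  have e1 := three_mul_card_le (hp.to_le h23) hlt1
  have e2 := three_mul_card_le hp hlt2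
  rw [card_bot] at e0
  have hcomm : IsMulCommutative (A₃.subgroupOf H) :=
    ⟨⟨fun a b => Subtype.ext (Subtype.ext (hc _ a.2 _ b.2))⟩⟩
  have h5 := h (A₃.subgroupOf H) hcomm (fun a ha => Subtype.ext (h3 _ ha))
  rw [Nat.card_congr (Subgroup.subgroupOfEquivOfLe hAH).toEquiv] at h5
  norm_num at h5
  omega

/-- The rank condition passes to subgroups and isomorphic groups. -/
theorem prank_of_injective {H : Type*} [Group H] {p k : ℕ} (f : H →* G) (hf : Function.Injective f)
    (h : Cfsg.PRankLE p k G) : Cfsg.PRankLE p k H := by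
  intro A hA h3
  have h1 : IsMulCommutative (A.map f) := ⟨⟨by
    rintro ⟨_, a, ha, rfl⟩ ⟨_, b, hb, rfl⟩
    apply Subtype.ext
    show f a * f b = f b * f a
    rw [← map_mul, ← map_mul]
    congr 1
    exact congrArg Subtype.val (hA.is_comm.comm (⟨a, ha⟩ : A) ⟨b, hb⟩)⟩⟩
  have h2 := h (A.map f) h1 (by
    rintro _ ⟨a, ha, rfl⟩
    rw [← map_pow, h3 a ha, map_one])
  rwa [← Nat.card_congr (A.equivMapOfInjective f hf).toEquiv] at h2

/-- `not_rank_sub` for the whole group -/
theorem not_rank [Finite G] {x y w b c : G} (hx : x ^ 3 = 1) (hy : y ^ 3 = 1) (hw : w ^ 3 = 1)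
    (hx1 : x ≠ 1) (hy1 : y ≠ 1) (hw1 : w ≠ 1) (hxy : x * y = y * x) (hxw : x * w = w * x) (hyw : y * w = w * y)
    (hbx : b * x * b⁻¹ = x) (hby : b * y * b⁻¹ = y⁻¹) (hcx : c * x * c⁻¹ = x) (hcy : c * y * c⁻¹ = y)
    (hcw : c * w * c⁻¹ = w⁻¹) : ¬ Cfsg.PRankLE 3 2 G := fun h =>
  not_rank_sub hx hy hw hx1 hy1 hw1 hxy hxw hyw hbx hby hcx hcy hcw ⊤ (mem_top _) (mem_top _) (mem_top _)
    (prank_of_injective (⊤ : Subgroup G).subtype (Subgroup.subtype_injective _) h)

/-- Three commuting pairs of involutions (three disjoint edges of a Coxeter diagram). -/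
theorem not_rank_of_edges {p₁ q₁ p₂ q₂ p₃ q₃ : G}
    (s₁' : q₁ * q₁ = 1) (s₂ : p₂ * p₂ = 1) (s₂' : q₂ * q₂ = 1) (s₃ : p₃ * p₃ = 1) (s₃' : q₃ * q₃ = 1)
    (b₁ : (p₁ * q₁) ^ 3 = 1) (b₂ : (p₂ * q₂) ^ 3 = 1) (b₃ : (p₃ * q₃) ^ 3 = 1)
    (n₁ : p₁ ≠ q₁) (n₂ : p₂ ≠ q₂) (n₃ : p₃ ≠ q₃)
    (c12 : p₁ * p₂ = p₂ * p₁) (c12' : p₁ * q₂ = q₂ * p₁) (c12'' : q₁ * p₂ = p₂ * q₁) (c12''' : q₁ * q₂ = q₂ * q₁)
    (c13 : p₁ * p₃ = p₃ * p₁) (c13' : p₁ * q₃ = q₃ * p₁) (c13'' : q₁ * p₃ = p₃ * q₁) (c13''' : q₁ * q₃ = q₃ * q₁)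
    (c23 : p₂ * p₃ = p₃ * p₂) (c23' : p₂ * q₃ = q₃ * p₂) (c23'' : q₂ * p₃ = p₃ * q₂) (c23''' : q₂ * q₃ = q₃ * q₂)
    (H : Subgroup G) [Finite H] (m₁ : p₁ * q₁ ∈ H) (m₂ : p₂ * q₂ ∈ H) (m₃ : p₃ * q₃ ∈ H) :
    ¬ Cfsg.PRankLE 3 2 H := by
  have inv : ∀ {g : G}, g * g = 1 → g⁻¹ = g := fun h => inv_eq_of_mul_eq_one_left h
  have ne : ∀ {p q : G}, q * q = 1 → p ≠ q → p * q ≠ 1 := by
    intro p q hq hpq h
    rw [mul_eq_one_iff_eq_inv, inv hq] at h
    exact hpq h
  have cc : ∀ {p q p' q' : G}, p * p' = p' * p → p * q' = q' * p → q * p' = p' * q → q * q' = q' * q →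
      (p * q) * (p' * q') = (p' * q') * (p * q) := by
    intro p q p' q' h1 h2 h3 h4
    have e1 : Commute p p' := h1
    have e2 : Commute p q' := h2
    have e3 : Commute q p' := h3
    have e4 : Commute q q' := h4
    exact ((e1.mul_right e2).mul_left (e3.mul_right e4)).eq
  have cj : ∀ {p q r : G}, r * p = p * r → r * q = q * r → r * (p * q) * r⁻¹ = p * q := by
    intro p q r h1 h2
    have e1 : Commute r p := h1
    have e2 : Commute r q := h2
    rw [(e1.mul_right e2).eq, mul_inv_cancel_right]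
  have ci : ∀ {p q : G}, p * p = 1 → q * q = 1 → p * (p * q) * p⁻¹ = (p * q)⁻¹ := by
    intro p q hp hq
    rw [mul_inv_rev, inv hp, inv hq, ← mul_assoc, hp, one_mul]
  exact not_rank_sub (x := p₁ * q₁) (y := p₂ * q₂) (w := p₃ * q₃) (b := p₂) (c := p₃) b₁ b₂ b₃ (ne s₁' n₁) (ne s₂' n₂) (ne s₃' n₃)
    (cc c12 c12' c12'' c12''') (cc c13 c13' c13'' c13''') (cc c23 c23' c23'' c23''')
    (cj c12.symm c12''.symm) (ci s₂ s₂') (cj c13.symm c13''.symm) (cj c23.symm c23''.symm) (ci s₃ s₃') H m₁ m₂ m₃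

/-! ### Coxeter relations -/

/-- one step in a Coxeter diagram: if `P = Q`, `Q`, `R` joined, `P`, `R` not joined, then `Q = R` -/
theorem step {P Q R : G} (sR : R * R = 1) (h : P = Q) (b : (Q * R) ^ 3 = 1) (c : P * R = R * P) (sQ : Q * Q = 1) :
    Q = R := by
  subst h
  have h1 : (P * R) ^ 2 = 1 := by
    rw [pow_two]
    calc P * R * (P * R) = P * (R * P) * R := by group
      _ = P * P * (R * R) := by rw [← c]; group
      _ = 1 := by rw [sR, sQ, one_mul]
  rw [pow_succ, h1, one_mul, mul_eq_one_iff_eq_inv, inv_eq_of_mul_eq_one_left sR] at b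
  exact b

section

variable {α : Type*} [DecidableEq α] {edges : List (α × ℕ × α)} {extra : List (FreeGroup α)}

open Cfsg.Spor

theorem cox {x y : α} (hx : x ∈ coxNodes edges) (hy : y ∈ coxNodes edges) :
    ((PresentedGroup.of x : CoxPresented α edges extra) * PresentedGroup.of y) ^ coxLabel edges x y = 1 := by
  have h : PresentedGroup.mk (coxRelators edges ∪ {r | r ∈ extra}) ((FreeGroup.of x * FreeGroup.of y) ^ coxLabel edges x y) = 1 :=
    PresentedGroup.one_of_mem (Or.inl ⟨x, hx, y, hy, rfl⟩)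
  rw [map_pow, map_mul] at h
  exact h

/-- squares -/
theorem cox_sq {x : α} (hx : x ∈ coxNodes edges) :
    (PresentedGroup.of x : CoxPresented α edges extra) * PresentedGroup.of x = 1 := by
  have h := cox (extra := extra) hx hx
  rwa [coxLabel, if_pos rfl, pow_one] at h

/-- joined nodes -/
theorem cox_three {x y : α} (hx : x ∈ coxNodes edges) (hy : y ∈ coxNodes edges) (h3 : coxLabel edges x y = 3) :
    ((PresentedGroup.of x : CoxPresented α edges extra) * PresentedGroup.of y) ^ 3 = 1 := by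
  have h := cox (extra := extra) hx hy
  rwa [h3] at h

/-- nodes which are not joined -/
theorem cox_comm {x y : α} (hx : x ∈ coxNodes edges) (hy : y ∈ coxNodes edges) (h2 : coxLabel edges x y = 2) :
    (PresentedGroup.of x : CoxPresented α edges extra) * PresentedGroup.of y = PresentedGroup.of y * PresentedGroup.of x := by
  have h := cox (extra := extra) hx hy
  rw [h2, pow_two] at h
  have sx := cox_sq (extra := extra) hx
  have sy := cox_sq (extra := extra) hy
  have h1 : (PresentedGroup.of x : CoxPresented α edges extra) * PresentedGroup.of y =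
      ((PresentedGroup.of x : CoxPresented α edges extra) * PresentedGroup.of y)⁻¹ := eq_inv_of_mul_eq_one_left h
  rw [mul_inv_rev, inv_eq_of_mul_eq_one_left sx, inv_eq_of_mul_eq_one_left sy] at h1
  exact h1

/-- If all generators are equal, the group is commutative. -/
theorem comm_of_eq {g : CoxPresented α edges extra}
    (h : ∀ x : α, (PresentedGroup.of x : CoxPresented α edges extra) = g) (a b : CoxPresented α edges extra) :
    a * b = b * a := by
  have h1 : zpowers g = ⊤ := by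
    rw [eq_top_iff, ← PresentedGroup.closure_range_of, closure_le]
    rintro _ ⟨x, rfl⟩
    rw [SetLike.mem_coe, h x]
    exact mem_zpowers g
  obtain ⟨i, rfl⟩ := mem_zpowers_iff.1 (h1.symm ▸ mem_top a : a ∈ zpowers g)
  obtain ⟨j, rfl⟩ := mem_zpowers_iff.1 (h1.symm ▸ mem_top b : b ∈ zpowers g)
  rw [← zpow_add, ← zpow_add, add_comm]

end

/-- a product of two elements with product of order 3 and squares trivial is a commutator -/
theorem mul_mem_commutator {p q : G} (hp : p * p = 1) (hq : q * q = 1) (h : (p * q) ^ 3 = 1) : p * q ∈ commutator G := by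
  have h1 : p * q = ⁅q, p⁆ := by
    rw [commutatorElement_def, inv_eq_of_mul_eq_one_left hp, inv_eq_of_mul_eq_one_left hq]
    have e : (p * q) * (p * q) * (p * q) = 1 := by rw [← h, pow_succ, pow_two]
    calc p * q = (p * q) * (p * q) * (p * q) * ((p * q)⁻¹ * (p * q)⁻¹) := by group
      _ = (p * q)⁻¹ * (p * q)⁻¹ := by rw [e, one_mul]
      _ = q * p * q * p := by
        rw [mul_inv_rev, inv_eq_of_mul_eq_one_left hp, inv_eq_of_mul_eq_one_left hq]; group
  rw [h1, _root_.commutator_def]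
  exact commutator_mem_commutator (mem_top _) (mem_top _)

end Cfsg.Agent.Omega.Quasithin.Row.E27
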