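import Mathlib
import Cfsg.Prelude.Def_ClassificationK
import Cfsg.Agent.Lib.Cores
import Cfsg.Agent.Lib.NormalAbelian

/-!
# Even characteristic from the centralisers of the 2-central involutions (S1731, table)

* `even_of` : if for every 2-central involution `y` some 2-subgroup `Q`, normalised by `C(y)`, contains its
  centraliser in `C(y)`, then `G` is of even characteristic.
* `even_of_one` : the same with one involution `z`, provided that the involutions of `Z(Q)` are conjugate to `z`.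
-/

set_option autoImplicit false

namespace Cfsg.Agent.Omega.Quasithin.EvenOf

open Cfsg Subgroup

variable {G : Type*} [Group G]

/-- a 2-subgroup normalised by a Sylow 2-subgroup is contained in it -/
theorem le_sylow_of_normalizes [Finite G] (S : Sylow 2 G) {Q : Subgroup G} (hQ : IsPGroup 2 Q)
    (hn : ∀ s ∈ S, ∀ x ∈ Q, s * x * s⁻¹ ∈ Q) : Q ≤ S := by
  have hfact : Fact (Nat.Prime 2) := ⟨Nat.prime_two⟩
  have hnorm : (S : Subgroup G) ≤ normalizer (Q : Set G) := by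
    intro s hs
    rw [mem_normalizer_iff]
    intro r
    constructor
    · exact fun hr => hn s hs r hr
    · intro hr
      have h1 := hn s⁻¹ (inv_mem hs) _ hr
      have e : s⁻¹ * (s * r * s⁻¹) * s⁻¹⁻¹ = r := by group
      rwa [e] at h1
  have h2 : IsPGroup 2 ((S : Subgroup G) ⊔ Q : Subgroup G) :=
    S.isPGroup'.to_sup_of_normal_right' hQ hnorm
  have h3 := S.is_maximal' h2 le_sup_left
  exact (le_sup_right : Q ≤ (S : Subgroup G) ⊔ Q).trans h3.le

/-- an element of 2-power order and of odd order is trivial -/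
theorem eq_one_of_pow {x : G} {n k : ℕ} (hn : Odd n) (h1 : x ^ n = 1) (h2 : x ^ (2 ^ k) = 1) : x = 1 := by
  have h3 : orderOf x ∣ n := orderOf_dvd_of_pow_eq_one h1
  have h4 : orderOf x ∣ 2 ^ k := orderOf_dvd_of_pow_eq_one h2
  have h5 : Nat.Coprime n (2 ^ k) := (Nat.Coprime.pow_right k (Nat.coprime_two_right.2 hn))
  have h6 : orderOf x ∣ 1 := h5 ▸ Nat.dvd_gcd h3 h4
  exact orderOf_eq_one_iff.1 (Nat.dvd_one.1 h6)

/-- a nontrivial element of 2-power order has an involution among its powers -/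
theorem exists_pow_invol {w : G} (hw : w ≠ 1) {k : ℕ} (hk : w ^ (2 ^ k) = 1) :
    ∃ m : ℕ, w ^ m ≠ 1 ∧ w ^ m * w ^ m = 1 := by
  classical
  have hex : ∃ j, w ^ (2 ^ j) = 1 := ⟨k, hk⟩
  have hj := Nat.find_spec hex
  rcases Nat.eq_zero_or_pos (Nat.find hex) with h0 | h0
  · rw [h0, pow_zero, pow_one] at hj
    exact absurd hj hw
  · refine ⟨2 ^ (Nat.find hex - 1), Nat.find_min hex (by omega), ?_⟩
    rw [← pow_add, ← two_mul, ← pow_succ', Nat.sub_add_cancel h0]
    exact hj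

/-- an involution of a nontrivial subgroup of `S` normalised by `S`, central in `S` -/
theorem exists_central [Finite G] (S : Sylow 2 G) {T : Subgroup G} (hT1 : T ≠ ⊥) (hTS : T ≤ S)
    (hn : ∀ s ∈ S, ∀ x ∈ T, s * x * s⁻¹ ∈ T) : ∃ y ∈ T, y ≠ 1 ∧ y * y = 1 ∧ ∀ x ∈ S, x * y = y * x := by
  have hfact : Fact (Nat.Prime 2) := ⟨Nat.prime_two⟩
  have hTn : (T.subgroupOf S).Normal := ⟨fun n hn' g => by
    rw [mem_subgroupOf] at hn' ⊢
    exact hn g g.2 n hn'⟩
  have hTb : T.subgroupOf S ≠ ⊥ := by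
    rw [Ne, subgroupOf_eq_bot]
    intro hd
    exact hT1 (le_bot_iff.1 (hd le_rfl hTS))
  have hSp : IsPGroup 2 (S : Subgroup G) := S.isPGroup'
  have hnil : Group.IsNilpotent (S : Subgroup G) := hSp.isNilpotent
  have h1 := Cfsg.Agent.Lib.NormalAbelian.normal_inf_center_ne_bot (T.subgroupOf S) hTb
  obtain ⟨w, hw, hw1⟩ : ∃ w ∈ T.subgroupOf S ⊓ center (S : Subgroup G), w ≠ 1 := by
    rcases bot_or_exists_ne_one (T.subgroupOf S ⊓ center (S : Subgroup G)) with h | h
    · exact absurd h h1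
    · exact h
  obtain ⟨k, hk⟩ := hSp w
  obtain ⟨m, hm1, hm2⟩ := exists_pow_invol hw1 hk
  have hwm := pow_mem hw m
  refine ⟨((w ^ m : (S : Subgroup G)) : G), mem_subgroupOf.1 hwm.1, fun h => hm1 (Subtype.ext h), ?_, ?_⟩
  · exact congrArg Subtype.val hm2
  · intro x hx
    exact congrArg Subtype.val (mem_center_iff.1 hwm.2 ⟨x, hx⟩)

/-- **Even characteristic from the centralisers of the 2-central involutions.** -/
theorem even_of [Finite G]
    (h : ∀ y : G, y * y = 1 → y ≠ 1 → (∃ S : Sylow 2 G, ∀ x ∈ S, x * y = y * x) →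
      ∃ Q : Subgroup G, IsPGroup 2 Q ∧ (∀ g, g * y = y * g → ∀ x ∈ Q, g * x * g⁻¹ ∈ Q) ∧
        ∀ g, g * y = y * g → (∀ x ∈ Q, g * x = x * g) → g ∈ Q) :
    IsOfEvenCharacteristic G := by
  have hfact : Fact (Nat.Prime 2) := ⟨Nat.prime_two⟩
  rintro _ ⟨T, hT2, hT1, rfl⟩ ⟨S, hS⟩
  set M : Subgroup G := normalizer (T : Set G) with hM
  have hTM : T ≤ M := le_normalizer
  have hnT : ∀ s ∈ S, ∀ x ∈ T, s * x * s⁻¹ ∈ T := fun s hs x hx => ((mem_normalizer_iff.1 (hS hs)) x).1 hx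
  have hTS : T ≤ S := le_sylow_of_normalizes S hT2 hnT
  obtain ⟨y, hyT, hy1, hyy, hyS⟩ := exists_central S hT1 hTS hnT
  obtain ⟨Q, hQ2, hQn, hQc⟩ := h y hyy hy1 ⟨S, hyS⟩
  have hQS : Q ≤ S := le_sylow_of_normalizes S hQ2 fun s hs => hQn s (hyS s hs)
  have hQM : Q ≤ M := hQS.trans hS
  -- the image of `O₂(M)`
  have hyO : (⟨y, hTM hyT⟩ : M) ∈ pCore 2 M := by
    refine Lib.Cores.le_pCore (N := T.subgroupOf M) ⟨fun n hn g => ?_⟩ ?_ (mem_subgroupOf.2 hyT)
    · rw [mem_subgroupOf] at hn ⊢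
      exact ((mem_normalizer_iff.1 g.2) n).1 hn
    · exact hT2.comap_of_injective _ M.subtype_injective
  have hOp : IsPGroup 2 (pCore 2 M) := Lib.Cores.pCore_isPGroup 2
  set D : Subgroup M := centralizer (pCore 2 M : Set M) with hD
  have hDn : D.Normal := by
    rw [hD]; infer_instance
  -- elements of `D` commute with `y`
  have hDy : ∀ d ∈ D, (d : G) * y = y * d := fun d hd =>
    (congrArg Subtype.val (mem_centralizer_iff.1 hd _ hyO)).symm
  -- `D ∩ Q ≤ O₂(M)`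
  have hDQ : ∀ d ∈ D, (d : G) ∈ Q → d ∈ pCore 2 M := by
    set R : Subgroup M := Q.subgroupOf M ⊓ D with hR
    have hR2 : IsPGroup 2 R := (hQ2.comap_of_injective _ M.subtype_injective).to_le inf_le_left
    have hmap : (R.subgroupOf D).map D.subtype = R := by
      rw [subgroupOf_map_subtype, inf_eq_left.2 inf_le_right]
    have h1 : (R.subgroupOf D).Normal := by
      refine ⟨fun n hn g => ?_⟩
      rw [mem_subgroupOf] at hn ⊢
      refine ⟨?_, D.mul_mem (D.mul_mem g.2 hn.2) (D.inv_mem g.2)⟩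
      exact mem_subgroupOf.2 (hQn _ (hDy g g.2) _ (mem_subgroupOf.1 hn.1))
    have h2 : R.subgroupOf D ≤ pCore 2 D := Lib.Cores.le_pCore h1 hR2.comap_subtype
    have h3 := Subgroup.map_mono (f := D.subtype) h2
    rw [hmap, Lib.Cores.map_subtype_pCore 2 hDn] at h3
    intro d hd hdQ
    exact (h3 ⟨mem_subgroupOf.2 hdQ, hd⟩).2
  -- elements of odd order of `D` are trivial
  have hodd : ∀ d ∈ D, ∀ n : ℕ, Odd n → d ^ n = 1 → d = 1 := by
    intro d hd n hn hdn
    have hcQ : ∀ x ∈ Q, (d : G) * x = x * d := by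
      intro x hx
      -- `c = [x, d]`
      set xM : M := ⟨x, hQM hx⟩ with hxM
      set c : M := xM * d * xM⁻¹ * d⁻¹ with hc
      have hcD : c ∈ D := D.mul_mem (hDn.conj_mem d hd xM) (D.inv_mem hd)
      have hcQ : (c : G) ∈ Q := by
        have e : (c : G) = x * ((d : G) * x⁻¹ * (d : G)⁻¹) := by
          rw [hc, hxM]
          simp only [Subgroup.coe_mul, Subgroup.coe_inv]
          group
        rw [e]
        exact Q.mul_mem hx (hQn _ (hDy d hd) _ (Q.inv_mem hx))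
      have hcO : c ∈ pCore 2 M := hDQ c hcD hcQ
      have hcd : Commute c d := (mem_centralizer_iff.1 hd c hcO)
      have e1 : xM * d * xM⁻¹ = c * d := by rw [hc]; group
      have e2 : xM * d ^ n * xM⁻¹ = c ^ n * d ^ n := by
        rw [← hcd.mul_pow, ← e1, conj_pow]
      rw [hdn, mul_one, mul_one, mul_inv_cancel] at e2
      obtain ⟨k, hk⟩ := hOp ⟨c, hcO⟩
      have hc1 : c = 1 := eq_one_of_pow hn e2.symm (congrArg Subtype.val hk)
      have e3 : xM * d = d * xM := by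
        rw [hc1, one_mul] at e1
        rw [mul_inv_eq_iff_eq_mul] at e1
        exact e1
      exact (congrArg Subtype.val e3).symm
    have hdQ := hQc d (hDy d hd) hcQ
    obtain ⟨k, hk⟩ := hQ2 ⟨d, hdQ⟩
    apply Subtype.ext
    exact eq_one_of_pow hn (congrArg Subtype.val hdn) (congrArg Subtype.val hk)
  -- `D` is a 2-group
  have hD2 : IsPGroup 2 D := by
    intro d
    obtain ⟨k, m, hm, hkm⟩ := Nat.exists_eq_two_pow_mul_odd (orderOf_pos d).ne'
    refine ⟨k, ?_⟩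
    apply Subtype.ext
    refine hodd _ (D.pow_mem d.2 _) m hm ?_
    have e : (d ^ 2 ^ k) ^ m = 1 := by rw [← pow_mul, ← hkm, pow_orderOf_eq_one]
    exact congrArg Subtype.val e
  exact Lib.Cores.le_pCore hDn hD2

/-- **Even characteristic from one 2-central involution `z`**, when every involution of `Z(Q)` is conjugate to
`z`. -/
theorem even_of_one [Finite G] {z : G} (hzz : z * z = 1) {Q : Subgroup G} (hQ2 : IsPGroup 2 Q)
    (hQn : ∀ g, g * z = z * g → ∀ x ∈ Q, g * x * g⁻¹ ∈ Q)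
    (hQc : ∀ g, g * z = z * g → (∀ x ∈ Q, g * x = x * g) → g ∈ Q)
    (hS : ∃ S : Sylow 2 G, ∀ x ∈ S, x * z = z * x)
    (hu : ∀ y ∈ Q, y * y = 1 → y ≠ 1 → (∀ x ∈ Q, x * y = y * x) → IsConj z y) : IsOfEvenCharacteristic G := by
  have hfact : Fact (Nat.Prime 2) := ⟨Nat.prime_two⟩
  obtain ⟨S, hS⟩ := hS
  have hQS : Q ≤ S := le_sylow_of_normalizes S hQ2 fun s hs => hQn s (hS s hs)
  -- a 2-element centralising `S` lies in `S`
  have hself : ∀ y : G, y * y = 1 → (∀ x ∈ S, x * y = y * x) → y ∈ S := by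
    intro y hyy hy
    have h1 : zpowers y ≤ S := by
      refine le_sylow_of_normalizes S ?_ ?_
      · rintro ⟨g, hg⟩
        refine ⟨1, ?_⟩
        obtain ⟨k, rfl⟩ := mem_zpowers_iff.1 hg
        apply Subtype.ext
        show (y ^ k) ^ (2 ^ 1) = 1
        rw [pow_one, pow_two, ← zpow_add, ← two_mul, zpow_mul, zpow_two, hyy, one_zpow]
      · intro s hs x hx
        obtain ⟨k, rfl⟩ := mem_zpowers_iff.1 hx
        have h2 : Commute s y := hy s hs
        rw [(h2.zpow_right k).eq, mul_inv_cancel_right]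
        exact hx
    exact h1 (mem_zpowers y)
  have hzS : z ∈ S := hself z hzz hS
  refine even_of ?_
  rintro y hyy hy1 ⟨S', hS'⟩
  obtain ⟨g, hg⟩ := MulAction.exists_smul_eq G S S'
  have hmem : ∀ x ∈ S, g * x * g⁻¹ ∈ S' := by
    intro x hx
    rw [← hg]
    exact ⟨x, hx, rfl⟩
  set y' : G := g⁻¹ * y * g with hy'
  have hyy' : y' * y' = 1 := by
    rw [hy']
    calc g⁻¹ * y * g * (g⁻¹ * y * g) = g⁻¹ * (y * y) * g := by group
      _ = 1 := by rw [hyy]; group
  have hy1' : y' ≠ 1 := by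
    intro h
    apply hy1
    have e : y = g * y' * g⁻¹ := by rw [hy']; group
    rw [e, h]; group
  have hyS' : ∀ x ∈ S, x * y' = y' * x := by
    intro x hx
    have h1 := hS' _ (hmem x hx)
    calc x * y' = g⁻¹ * (g * x * g⁻¹ * y) * g := by rw [hy']; group
      _ = g⁻¹ * (y * (g * x * g⁻¹)) * g := by rw [h1]
      _ = y' * x := by rw [hy']; group
  have hyQ : y' ∈ Q := hQc y' (hyS' z hzS).symm fun x hx => (hyS' x (hQS hx)).symm
  obtain ⟨c, hc⟩ := isConj_iff.1 (hu y' hyQ hyy' hy1' fun x hx => hyS' x (hQS hx))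
  -- `y = k z k⁻¹`
  set k : G := g * c with hk
  have hky : k * z * k⁻¹ = y := by
    have e : y = g * y' * g⁻¹ := by rw [hy']; group
    rw [e, ← hc, hk]; group
  refine ⟨Q.map (MulAut.conj k).toMonoidHom, hQ2.map _, ?_, ?_⟩
  · rintro u hu' _ ⟨x, hx, rfl⟩
    refine ⟨k⁻¹ * u * k * x * (k⁻¹ * u * k)⁻¹, hQn _ ?_ x hx, ?_⟩
    · calc k⁻¹ * u * k * z = k⁻¹ * (u * (k * z * k⁻¹)) * k := by group
        _ = k⁻¹ * (k * z * k⁻¹ * u) * k := by rw [hky, hu']
        _ = z * (k⁻¹ * u * k) := by group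
    · show k * (k⁻¹ * u * k * x * (k⁻¹ * u * k)⁻¹) * k⁻¹ = u * (k * x * k⁻¹) * u⁻¹
      group
  · intro u hu' hux
    refine ⟨k⁻¹ * u * k, hQc _ ?_ ?_, ?_⟩
    · calc k⁻¹ * u * k * z = k⁻¹ * (u * (k * z * k⁻¹)) * k := by group
        _ = k⁻¹ * (k * z * k⁻¹ * u) * k := by rw [hky, hu']
        _ = z * (k⁻¹ * u * k) := by group
    · intro x hx
      have h1 := hux (k * x * k⁻¹) ⟨x, hx, rfl⟩
      calc k⁻¹ * u * k * x = k⁻¹ * (u * (k * x * k⁻¹)) * k := by group
        _ = k⁻¹ * (k * x * k⁻¹ * u) * k := by rw [h1]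
        _ = x * (k⁻¹ * u * k) := by group
    · show k * (k⁻¹ * u * k) * k⁻¹ = u
      group

/-- transport of `Q` along conjugation by `k`, where `y = k z k⁻¹` -/
theorem conj_data {z y k : G} (hky : k * z * k⁻¹ = y) {Q : Subgroup G} (hQ2 : IsPGroup 2 Q)
    (hQn : ∀ g, g * z = z * g → ∀ x ∈ Q, g * x * g⁻¹ ∈ Q)
    (hQc : ∀ g, g * z = z * g → (∀ x ∈ Q, g * x = x * g) → g ∈ Q) :
    ∃ Q : Subgroup G, IsPGroup 2 Q ∧ (∀ g, g * y = y * g → ∀ x ∈ Q, g * x * g⁻¹ ∈ Q) ∧
        ∀ g, g * y = y * g → (∀ x ∈ Q, g * x = x * g) → g ∈ Q := by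
  refine ⟨Q.map (MulAut.conj k).toMonoidHom, hQ2.map _, ?_, ?_⟩
  · rintro u hu' _ ⟨x, hx, rfl⟩
    refine ⟨k⁻¹ * u * k * x * (k⁻¹ * u * k)⁻¹, hQn _ ?_ x hx, ?_⟩
    · calc k⁻¹ * u * k * z = k⁻¹ * (u * (k * z * k⁻¹)) * k := by group
        _ = k⁻¹ * (k * z * k⁻¹ * u) * k := by rw [hky, hu']
        _ = z * (k⁻¹ * u * k) := by group
    · show k * (k⁻¹ * u * k * x * (k⁻¹ * u * k)⁻¹) * k⁻¹ = u * (k * x * k⁻¹) * u⁻¹
      group
  · intro u hu' hux
    refine ⟨k⁻¹ * u * k, hQc _ ?_ ?_, ?_⟩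
    · calc k⁻¹ * u * k * z = k⁻¹ * (u * (k * z * k⁻¹)) * k := by group
        _ = k⁻¹ * (k * z * k⁻¹ * u) * k := by rw [hky, hu']
        _ = z * (k⁻¹ * u * k) := by group
    · intro x hx
      have h1 := hux (k * x * k⁻¹) ⟨x, hx, rfl⟩
      calc k⁻¹ * u * k * x = k⁻¹ * (u * (k * x * k⁻¹)) * k := by group
        _ = k⁻¹ * (k * x * k⁻¹ * u) * k := by rw [h1]
        _ = x * (k⁻¹ * u * k) := by group
    · show k * (k⁻¹ * u * k) * k⁻¹ = u
      group

/-- **Even characteristic**, when `z` is the only non-trivial element centralising some Sylow 2-subgroup. -/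
theorem even_of_center [Finite G] {z : G} {Q : Subgroup G} (hQ2 : IsPGroup 2 Q)
    (hQn : ∀ g, g * z = z * g → ∀ x ∈ Q, g * x * g⁻¹ ∈ Q)
    (hQc : ∀ g, g * z = z * g → (∀ x ∈ Q, g * x = x * g) → g ∈ Q)
    (hS : ∃ S : Sylow 2 G, ∀ a, (∀ x ∈ S, x * a = a * x) → a = 1 ∨ a = z) : IsOfEvenCharacteristic G := by
  have hfact : Fact (Nat.Prime 2) := ⟨Nat.prime_two⟩
  obtain ⟨S, hS⟩ := hS
  refine even_of ?_
  rintro y - hy1 ⟨S', hS'⟩
  obtain ⟨g, hg⟩ := MulAction.exists_smul_eq G S S'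
  have hmem : ∀ x ∈ S, g * x * g⁻¹ ∈ S' := by
    intro x hx
    rw [← hg]
    exact ⟨x, hx, rfl⟩
  have hyS : ∀ x ∈ S, x * (g⁻¹ * y * g) = g⁻¹ * y * g * x := by
    intro x hx
    have h1 := hS' _ (hmem x hx)
    calc x * (g⁻¹ * y * g) = g⁻¹ * (g * x * g⁻¹ * y) * g := by group
      _ = g⁻¹ * (y * (g * x * g⁻¹)) * g := by rw [h1]
      _ = g⁻¹ * y * g * x := by group
  rcases hS _ hyS with h1 | h1
  · exfalso
    apply hy1
    calc y = g * (g⁻¹ * y * g) * g⁻¹ := by group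
      _ = 1 := by rw [h1]; group
  · refine conj_data (k := g) ?_ hQ2 hQn hQc
    rw [← h1]; group

/-- if `|G : C(z)|` is odd some Sylow 2-subgroup centralises `z` -/
theorem exists_sylow [Finite G] {z : G} (hodd : Odd (centralizer ({z} : Set G)).index) :
    ∃ S : Sylow 2 G, ∀ x ∈ S, x * z = z * x := by
  have hfact : Fact (Nat.Prime 2) := ⟨Nat.prime_two⟩
  set C := centralizer ({z} : Set G)
  obtain ⟨P⟩ : Nonempty (Sylow 2 G) := inferInstance
  obtain ⟨a, ha⟩ := P.isPGroup'.nonempty_fixed_point_of_prime_not_dvd_card (G ⧸ C) (by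
    rw [← Subgroup.index_eq_card]
    exact fun h2 => by
      rcases hodd with ⟨m, hm⟩
      omega)
  obtain ⟨g, rfl⟩ := QuotientGroup.mk_surjective a
  refine ⟨g⁻¹ • P, ?_⟩
  intro x hx
  have hx0 : x ∈ ((g⁻¹ • P : Sylow 2 G) : Subgroup G) := hx
  rw [Sylow.coe_subgroup_smul, Subgroup.mem_pointwise_smul_iff_inv_smul_mem, ← map_inv, inv_inv] at hx0
  have hx' : g * x * g⁻¹ ∈ (P : Subgroup G) := hx0
  obtain ⟨p, hp, rfl⟩ : ∃ p ∈ (P : Subgroup G), g⁻¹ * p * g = x := ⟨_, hx', by group⟩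
  have h1 := ha ⟨p, hp⟩
  have h2 : (QuotientGroup.mk (p * g) : G ⧸ C) = QuotientGroup.mk g := h1
  rw [QuotientGroup.eq] at h2
  have h3 := C.inv_mem h2
  have e : ((p * g)⁻¹ * g)⁻¹ = g⁻¹ * p * g := by group
  rw [e] at h3
  exact mem_centralizer_singleton_iff.1 h3

/-- characteristic 2 is invariant under isomorphism -/
theorem charTwo_of_equiv {A B : Type*} [Group A] [Group B] (e : A ≃* B) (h : IsOfCharacteristicTwo B) :
    IsOfCharacteristicTwo A := by
  intro x hx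
  have h1 := Lib.Cores.map_equiv_pCore e 2
  have h2 : e x ∈ centralizer (pCore 2 B : Set B) := by
    rw [mem_centralizer_iff]
    intro b hb
    have hb' : b ∈ (pCore 2 A).map e.toMonoidHom := by rw [h1]; exact hb
    obtain ⟨a, ha, rfl⟩ := hb'
    show e a * e x = e x * e a
    rw [← map_mul, ← map_mul, mem_centralizer_iff.1 hx a ha]
  have h3 := h h2
  rw [← h1] at h3
  obtain ⟨a, ha, hax⟩ := h3
  rwa [← e.injective hax]

/-- even characteristic is invariant under isomorphism -/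
theorem even_of_equiv {H : Type*} [Group H] [Finite G] (e : G ≃* H) (h : IsOfEvenCharacteristic H) :
    IsOfEvenCharacteristic G := by
  rintro _ ⟨T, hT2, hT1, rfl⟩ ⟨S, hS⟩
  have hfin : Finite H := Finite.of_equiv G e.toEquiv
  have hN : (normalizer (T : Set G)).map e.toMonoidHom = normalizer ((T.map e.toMonoidHom : Subgroup H) : Set H) := by
    ext x
    obtain ⟨y, rfl⟩ := e.surjective x
    rw [mem_normalizer_iff]
    constructor
    · rintro ⟨y', hy', hyy⟩
      have hyy' : y' = y := e.injective hyy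
      subst hyy'
      intro b
      obtain ⟨b, rfl⟩ := e.surjective b
      have h1 := mem_normalizer_iff.1 hy' b
      constructor
      · rintro ⟨a, ha, hab⟩
        have : a = b := e.injective hab
        subst this
        exact ⟨y' * a * y'⁻¹, h1.1 ha, by simp⟩
      · rintro ⟨a, ha, hab⟩
        have h2 : a = y' * b * y'⁻¹ := e.injective (by simpa using hab)
        rw [h2] at ha
        exact ⟨b, h1.2 ha, rfl⟩
    · intro hy
      refine ⟨y, mem_normalizer_iff.2 fun b => ?_, rfl⟩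
      have h1 := hy (e b)
      constructor
      · intro hb
        obtain ⟨a, ha, hab⟩ := h1.1 ⟨b, hb, rfl⟩
        have h2 : a = y * b * y⁻¹ := e.injective (by simpa using hab)
        rwa [← h2]
      · intro hb
        obtain ⟨a, ha, hab⟩ := h1.2 ⟨y * b * y⁻¹, hb, by simp⟩
        have h2 : a = b := e.injective hab
        rwa [← h2]
  have h1 : IsOfCharacteristicTwo ((normalizer (T : Set G)).map e.toMonoidHom : Subgroup H) := by
    refine h _ ⟨T.map e.toMonoidHom, hT2.map _, ?_, hN⟩ ⟨Sylow.mapSurjective (f := e.toMonoidHom) e.surjective S, ?_⟩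
    · rw [Ne, map_eq_bot_iff_of_injective _ e.injective]
      exact hT1
    · exact map_mono hS
  exact charTwo_of_equiv (e.subgroupMap (normalizer (T : Set G))) h1

end Cfsg.Agent.Omega.Quasithin.EvenOf
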