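import Cfsg.Agent.Omega.Quasithin.Row.AltTwelve
import Cfsg.Agent.Omega.Quasithin.Row.E27
import Cfsg.Agent.HN.A12Group

/-! Row `HN` of the quasithin table: the 3-rank of `HN` is at least 3, as `A₁₂ < HN`. -/

set_option autoImplicit false

namespace Cfsg.Agent.Omega.Quasithin.Row.HN

open Cfsg.Agent.Omega.Quasithin.Row.E27 Cfsg.Agent.Omega.Quasithin.Row.AltTwelve

theorem not_rank_HN [IsSimpleGroup Cfsg.Spor.HN] : ¬ Cfsg.PRankLE 3 2 Cfsg.Spor.HN := by
  obtain ⟨K, ⟨f⟩⟩ := Cfsg.Agent.HN.A12Group.exists_alternating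
  intro h
  exact not_rank_A12 (prank_of_injective (K.subtype.comp f.symm.toMonoidHom)
    (K.subtype_injective.comp f.symm.injective) h)

universe u

theorem row_hn (h : Cfsg.IsHN Cfsg.Spor.HN) (G : Type u) [Group G] [Finite G] (hG : Cfsg.Spor.IsoHN G) :
    ¬ Cfsg.PRankLE 3 2 G := by
  obtain ⟨e⟩ := hG
  have := h.1
  exact fun h1 => not_rank_HN (prank_of_injective e.symm.toMonoidHom e.symm.injective h1)

end Cfsg.Agent.Omega.Quasithin.Row.HN
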