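import Cfsg.Agent.KFacts.HS.Cent5
import Cfsg.Agent.HN.FusK0
import Cfsg.Agent.Omega.Quasithin.Row.EvenOf
import Cfsg.Agent.Omega.Quasithin.Rows

/-!
# Table of S1731: `HS` is of even characteristic

`C(z) = R . S₅`, `R = 4 ∘ 2^{1+4}` contains its centraliser `⟨u⟩` in `C(z)`, `u² = z`.
-/

set_option autoImplicit false

namespace Cfsg.Agent.Omega.Quasithin.Row.HS

open Cfsg.Agent.HN Cfsg.Agent.HN.Pres Cfsg.Agent.HN.HS100 Cfsg.Agent.HN.H0Basic Cfsg.Agent.HN.WMask
open Cfsg.Agent.KFacts.HS Cfsg.Agent.KFacts.HS.Cent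

universe u

/-- the involution `b` in `K` -/
def bK : K := ⟨b, b_mem_K⟩

theorem b_ne_τ : b ≠ τ := by
  rw [b_eq]
  exact Classes.aτ_ne_τ

theorem not_isConj_b : ¬ IsConj b (b * τ) := by
  rw [b_eq, mul_assoc, τ_mul_τ, mul_one]
  exact fun h => Classes.not_isConj_a_aτ h.symm

section

variable {L : Type*} [Group L] (D : Cfsg.Agent.KFacts.HS.Mod L)

/-- the preimage of the centraliser of `z` is the centraliser of `b` -/
theorem comm_of {k : K} (h : D.π k * D.π bK = D.π bK * D.π k) : (k : H0) * b = b * k := by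
  have h1 : D.π (k * bK * k⁻¹) = D.π bK := by
    rw [map_mul, map_mul, map_inv, h, mul_inv_cancel_right]
  rw [D.eq_iff] at h1
  rcases h1 with h1 | h1
  · exact mul_inv_eq_iff_eq_mul.1 h1
  · exact absurd (isConj_iff.2 ⟨(k : H0), h1⟩) not_isConj_b

theorem comm_π {k l : K} (h : (k : H0) * l = l * k) : D.π k * D.π l = D.π l * D.π k := by
  rw [← map_mul, ← map_mul]
  exact congrArg D.π (Subtype.ext h)

/-- `O₂(C(z))` -/
def QQ : Subgroup L := (Rt.subgroupOf K).map D.π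

theorem mem_QQ {x : L} : x ∈ QQ D ↔ ∃ k : K, (k : H0) ∈ Rt ∧ D.π k = x := by
  unfold QQ
  rw [Subgroup.mem_map]
  rfl

theorem pow_four {r : H0} (hr : r ∈ Rt) : r ^ 2 ^ 2 = 1 := by
  obtain ⟨m, hm, -, e, rfl⟩ := mem_Rt.1 hr
  obtain ⟨e1, h1⟩ := R_sq m
  have h2 : R m * sg e * (R m * sg e) = sg e1 := by
    calc R m * sg e * (R m * sg e) = R m * (sg e * R m) * sg e := by group
      _ = (R m * R m) * (sg e * sg e) := by rw [R_sg]; group
      _ = sg e1 := by rw [h1, sg_mul, sg_mul]; cases e1 <;> cases e <;> rfl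
  have h3 : (R m * sg e) ^ 2 ^ 2 = (R m * sg e * (R m * sg e)) * (R m * sg e * (R m * sg e)) := by
    rw [show (2 : ℕ) ^ 2 = 4 from rfl, pow_succ, pow_succ, pow_two]; group
  rw [h3, h2, sg_mul]
  cases e1 <;> rfl

theorem sg_mem_Rt (e : Bool) : sg e ∈ Rt := by
  cases e
  · exact Rt.one_mem
  · exact b_mem_Rt

theorem Rt_b {r : H0} (hr : r ∈ Rt) : r * b = b * r := Wt_b hr.1

/-- elements of `C(z)` centralising `R` -/
theorem fix {k : K} (hk : (k : H0) * b = b * k) (h : ∀ x ∈ QQ D, D.π k * x = x * D.π k) :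
    ∃ e, (k : H0) = sg e ∨ (k : H0) = τ * sg e ∨ (k : H0) = U * sg e ∨ (k : H0) = U * τ * sg e := by
  apply fixR hk
  intro r hr
  have h1 := h (D.π ⟨r, hr.2⟩) ((mem_QQ D).2 ⟨⟨r, hr.2⟩, hr, rfl⟩)
  have h2 : D.π (k * ⟨r, hr.2⟩ * k⁻¹) = D.π ⟨r, hr.2⟩ := by
    rw [map_mul, map_mul, map_inv, h1, mul_inv_cancel_right]
  exact (D.eq_iff _ _).1 h2

theorem π_sq {k : K} : D.π k * D.π k = 1 ↔ (k : H0) * k = 1 ∨ (k : H0) * k = τ := by
  rw [← map_mul, D.ker]
  rfl

include D in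
/-- `HS` is of even characteristic -/
theorem even [Finite L] : IsOfEvenCharacteristic L := by
  have hfact : Fact (Nat.Prime 2) := ⟨Nat.prime_two⟩
  have hfin : Finite H0 := H0Basic.finite_H0
  refine EvenOf.even_of_one (z := D.π bK) (Q := QQ D) ?_ ?_ ?_ ?_ ?_ ?_
  · exact (π_sq D).2 (Or.inl b_sq)
  · rintro ⟨x, hx⟩
    obtain ⟨k, hk, rfl⟩ := (mem_QQ D).1 hx
    refine ⟨2, Subtype.ext ?_⟩
    show D.π k ^ 2 ^ 2 = 1
    rw [← map_pow, D.ker]
    exact Or.inl (pow_four hk)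
  · intro g hg x hx
    obtain ⟨k, rfl⟩ := D.surj g
    obtain ⟨r, hr, rfl⟩ := (mem_QQ D).1 hx
    refine (mem_QQ D).2 ⟨k * r * k⁻¹, Rt_conj (comm_of D hg) hr, ?_⟩
    rw [map_mul, map_mul, map_inv]
  · intro g hg hgx
    obtain ⟨k, rfl⟩ := D.surj g
    obtain ⟨e, he⟩ := fix D (comm_of D hg) hgx
    refine (mem_QQ D).2 ⟨k, ?_, rfl⟩
    rcases he with he | he | he | he <;> rw [he]
    · exact sg_mem_Rt e
    · exact Rt.mul_mem τ_mem_Rt (sg_mem_Rt e)
    · exact Rt.mul_mem U_mem_Rt (sg_mem_Rt e)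
    · exact Rt.mul_mem (Rt.mul_mem U_mem_Rt τ_mem_Rt) (sg_mem_Rt e)
  · refine ⟨FusK0.syl0.mapSurjective D.surj, ?_⟩
    rintro _ ⟨s, hs, rfl⟩
    apply comm_π
    have h1 : (s : H0) * Syl.a = Syl.a * s := Syl.a_comm (FusK0.mem_S0.1 hs)
    show (s : H0) * b = b * s
    rw [b_eq, ← mul_assoc, h1, mul_assoc, τ_comm, ← mul_assoc]
  · intro y hy hyy hy1 hyQ
    obtain ⟨k, hk, rfl⟩ := (mem_QQ D).1 hy
    obtain ⟨e, he⟩ := fix D (Rt_b hk) fun x hx => (hyQ x hx).symm
    have hsq : ∀ t : H0, t * t = 1 → (∀ g, g * t = t * g) → (k : H0) = U * t * sg e → False := by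
      intro t ht htc hkt
      have hUb : U * sg e = sg e * U := (sg_comm U_b e).symm
      have h1 : (k : H0) * k = b := by
        rw [hkt]
        calc U * t * sg e * (U * t * sg e) = U * t * (sg e * U) * t * sg e := by group
          _ = U * t * (U * sg e) * t * sg e := by rw [← hUb]
          _ = U * (t * U) * sg e * t * sg e := by group
          _ = U * (U * t) * (sg e * t) * sg e := by rw [← htc U]; group
          _ = (U * U) * (t * t) * (sg e * sg e) := by rw [htc (sg e)]; group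
          _ = b := by rw [U_sq, ht, sg_mul, mul_one, Bool.xor_self]; exact mul_one b
      rcases (π_sq D).1 hyy with h2 | h2
      · exact b_ne (h1.symm.trans h2)
      · exact b_ne_τ (h1.symm.trans h2)
    have hy2 : D.π k = D.π ⟨sg e, (sg_mem_Rt e).2⟩ := by
      rw [D.eq_iff]
      rcases he with he | he | he | he
      · exact Or.inl he
      · right; rw [he]; exact (τ_comm _).symm
      · exfalso; exact hsq 1 (one_mul 1) (fun g => by rw [mul_one, one_mul]) (by rw [mul_one]; exact he)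
      · exfalso; exact hsq τ τ_mul_τ τ_comm he
    cases e
    · exact absurd (hy2.trans (map_one D.π)) hy1
    · rw [hy2]
      exact IsConj.refl _

end

/-- **Row hs.** -/
theorem row_hs : EvenRow.{u} (fun X _ => Spor.IsoHS X) := by
  intro G _ _ h
  obtain ⟨D⟩ := exists_mod h
  exact even D

end Cfsg.Agent.Omega.Quasithin.Row.HS
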