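import Cfsg.Agent.Omega.Quasithin.Row.EvenOf
import Cfsg.Agent.KFacts.He.Hyp
import Cfsg.Agent.SporadicB.HeUpper
import Cfsg.Agent.SporadicB.HePerm.Final

/-!
# The Held group is of even characteristic (S1731, table)

`C(z) = 2^{1+6}:L3(2)` by `KFacts.He.Hyp`; its sheet is `KFacts.TwoSix.Sheet`.
-/

set_option autoImplicit false

namespace Cfsg.Agent.Omega.Quasithin.He

open Cfsg Subgroup Cfsg.Agent.SporadicRecognition.HeldModel Cfsg.Agent.KFacts.TwoSix

/-- a group with the centraliser `2^{1+6}:L3(2)` of odd index -/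
theorem even_of_hyp {G : Type*} [Group G] [Finite G] {z : G} {ι : CC →* G} (h : Hyp z ι)
    (hodd : Odd (centralizer ({z} : Set G)).index) : IsOfEvenCharacteristic G := by
  have S := Sheet.sheet_of h.inj
  rw [h.map_zz, h.range] at S
  have hP : ∀ g, g * z = z * g → g ∈ centralizer ({z} : Set G) := fun g hg =>
    mem_centralizer_singleton_iff.2 hg
  have hQ2 : IsPGroup 2 (SheetDef.im ι QQ) := IsPGroup.of_card (n := 7) (by rw [S.cardR]; norm_num)
  refine EvenOf.even_of_one (z := z) (Q := SheetDef.im ι QQ) S.zz hQ2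
    (fun g hg x hx => S.norR g (hP g hg) x hx) (fun g hg hx => ?_) (EvenOf.exists_sylow hodd) ?_
  · rcases S.cR g (hP g hg) hx with rfl | rfl
    · exact one_mem _
    · exact S.h1.ER S.h1.zE
  · intro y hy _ hy1 hx
    rcases S.cR y (S.RP hy) (fun x hx' => (hx x hx').symm) with h1 | h1
    · exact absurd h1 hy1
    · rw [h1]

theorem card_he : Nat.card Spor.He = 4030387200 := by
  obtain ⟨h1, h2⟩ := Cfsg.Agent.SporadicB.HeUpper.card_he_le
  exact (Cfsg.Agent.SporadicB.HePerm.injective_of_card_le h2).2.1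

theorem even : IsOfEvenCharacteristic Spor.He := by
  have hfin : Finite Spor.He := Cfsg.Agent.SporadicB.HeUpper.card_he_le.1
  obtain ⟨z, ι, h⟩ := Cfsg.Agent.KFacts.He.Hyp.hyp_he
  refine even_of_hyp h ?_
  have h1 : Nat.card (centralizer ({z} : Set Spor.He)) = 21504 := by
    rw [← h.range, ← Nat.card_congr (MonoidHom.ofInjective h.inj).toEquiv, card_CC]
  have h2 := (centralizer ({z} : Set Spor.He)).index_mul_card
  rw [h1, card_he] at h2
  have h3 : (centralizer ({z} : Set Spor.He)).index = 187425 := by omega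
  rw [h3]
  decide

/-- **Row `He`.** -/
theorem row_he (G : Type*) [Group G] [Finite G] (h : Spor.IsoHe G) : IsOfEvenCharacteristic G := by
  obtain ⟨e⟩ := h
  have hfin : Finite Spor.He := Cfsg.Agent.SporadicB.HeUpper.card_he_le.1
  exact EvenOf.even_of_equiv e even

end Cfsg.Agent.Omega.Quasithin.He
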