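import Cfsg.Agent.KFacts.J2.SheetX
import Cfsg.Agent.Omega.Quasithin.Row.EvenOf
import Cfsg.Agent.Omega.Quasithin.Rows

/-!
# Table of S1731: `J₂` is of even characteristic

`C(t) = 2^{1+4}_- : A₅`, `Q = O₂(C(t))` contains its centraliser, `Z(Q) = ⟨t⟩`.
-/

set_option autoImplicit false

namespace Cfsg.Agent.Omega.Quasithin.Row.J2

open Subgroup Cfsg.Agent.KFacts Cfsg.Agent.KFacts.J2.Basic

universe u

/-- **Row j2.** -/
theorem row_j2 : EvenRow.{u} (fun X _ => Spor.IsoJ2 X) := by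
  intro G _ _ h
  obtain ⟨t, u, Q, v, ρ, D⟩ := Cfsg.Agent.KFacts.J2.Facts.exists_dat_of h
  have hX := Cfsg.Agent.KFacts.J2.SheetX.sheetX D
  have S := QMinus.sheet D.cardC D.M
  refine EvenOf.even_of_one hX.zz hX.R2 (fun g hg x hx => hX.Rn g (mem_cent.2 hg) x hx)
    (fun g hg hgx => hX.cR g (mem_cent.2 hg) hgx) ?_ ?_
  · obtain ⟨T, -, h1, -⟩ := hX.syl
    exact ⟨T, h1⟩
  · intro y _ _ hy1 hyR
    rcases S.cen y fun r hr => (hyR r hr).symm with h1 | h1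
    · exact absurd h1 hy1
    · rw [h1]

end Cfsg.Agent.Omega.Quasithin.Row.J2
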