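import Cfsg.Prelude.Def_Spor_J3
import Cfsg.Agent.Omega.SQK.Rank

/-!
# Table of S1731: the 3-rank of `J₃` is at least 3

The diagonal matrices `diag (ω ^ (a x + b y + c (x² + y²)))` form a group of order 27 in `3·J₃`; no nontrivial one
commutes with all `D_Z`.
-/

set_option autoImplicit false

namespace Cfsg.Agent.Omega.Quasithin.Row.J3

open Cfsg Cfsg.Spor Matrix
open scoped MatrixGroups

universe u

variable {F : Type*} [Field F] {ω : F}

theorem om_cube (h : ω ^ 2 + ω + 1 = 0) : ω ^ 3 = 1 := by linear_combination (ω - 1) * h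

theorem om_ne_one [Fintype F] (hF : Fintype.card F = 4) (h : ω ^ 2 + ω + 1 = 0) : ω ≠ 1 := by
  rintro rfl
  have h4 : ((Fintype.card F : ℕ) : F) = 0 := Nat.cast_card_eq_zero F
  rw [hF] at h4
  have h4' : (4 : F) = 0 := by exact_mod_cast h4
  exact one_ne_zero (show (1 : F) = 0 by linear_combination h4' - h)

theorem pow_add' (h : ω ^ 3 = 1) (a b : ZMod 3) : omegaPow F ω (a + b) = omegaPow F ω a * omegaPow F ω b := by
  unfold omegaPow
  rw [ZMod.val_add, ← pow_add, ← pow_eq_pow_mod _ h]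

theorem pow_zero' : omegaPow F ω 0 = 1 := by
  unfold omegaPow
  rw [ZMod.val_zero, pow_zero]

theorem pow_eq_one (h : ω ^ 3 = 1) (h1 : ω ≠ 1) {a : ZMod 3} (ha : omegaPow F ω a = 1) : a = 0 := by
  unfold omegaPow at ha
  fin_cases a
  · rfl
  · exact absurd ((pow_one ω).symm.trans ha) h1
  · have h2 : ω ^ 2 = 1 := ha
    exact absurd (by rw [pow_succ, h2, one_mul] at h; exact h) h1

/-- The diagonal matrices. -/
noncomputable def dg (h : ω ^ 3 = 1) : Multiplicative (F9 → ZMod 3) →* GL F9 F where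
  toFun e := ⟨diagonal fun z => omegaPow F ω (e.toAdd z), diagonal fun z => omegaPow F ω (-e.toAdd z),
    by
      rw [diagonal_mul_diagonal, ← diagonal_one]
      congr 1
      funext z
      rw [← pow_add' h, add_neg_cancel, pow_zero'],
    by
      rw [diagonal_mul_diagonal, ← diagonal_one]
      congr 1
      funext z
      rw [← pow_add' h, neg_add_cancel, pow_zero']⟩
  map_one' := by
    apply Units.ext
    show diagonal (fun z => omegaPow F ω ((0 : F9 → ZMod 3) z)) = 1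
    rw [← diagonal_one]
    congr 1
    funext z
    exact pow_zero'
  map_mul' e e' := by
    apply Units.ext
    show diagonal (fun z => omegaPow F ω (e.toAdd z + e'.toAdd z)) = diagonal _ * diagonal _
    rw [diagonal_mul_diagonal]
    congr 1
    funext z
    exact pow_add' h _ _

theorem dg_coe (h : ω ^ 3 = 1) (e : F9 → ZMod 3) :
    (dg h (Multiplicative.ofAdd e) : Matrix F9 F9 F) = diagonal fun z => omegaPow F ω (e z) := rfl

/-- The exponents. -/
def L : (Fin 3 → ZMod 3) →+ (F9 → ZMod 3) where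
  toFun v z := v 0 * z.1 + v 1 * z.2 + v 2 * ((0 - z.1) ^ 2 + (0 - z.2) ^ 2)
  map_zero' := by
    funext z
    simp
  map_add' v w := by
    funext z
    simp only [Pi.add_apply]
    ring

theorem dg_L_mem (h : ω ^ 3 = 1) (v : Fin 3 → ZMod 3) :
    dg h (Multiplicative.ofAdd (L v)) ∈ threeJ3 F ω := by
  have h1 : L v = (fun z => v 0 * z.1 + v 1 * z.2) + (v 2).val • fun z => (0 - z.1) ^ 2 + (0 - z.2) ^ 2 := by
    funext z
    show v 0 * z.1 + v 1 * z.2 + v 2 * ((0 - z.1) ^ 2 + (0 - z.2) ^ 2) =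
      v 0 * z.1 + v 1 * z.2 + (v 2).val • ((0 - z.1) ^ 2 + (0 - z.2) ^ 2)
    rw [nsmul_eq_mul, ZMod.natCast_zmod_val]
  rw [h1, ofAdd_add, ofAdd_nsmul, map_mul, map_pow]
  refine Subgroup.mul_mem _ (Subgroup.subset_closure ?_) (Subgroup.pow_mem _ (Subgroup.subset_closure ?_) _)
  · exact Or.inl (Or.inl (Or.inl (Or.inl ⟨(v 0, v 1), rfl⟩)))
  · exact Or.inl (Or.inl (Or.inl (Or.inr ⟨0, rfl⟩)))

/-- The homomorphism. -/
noncomputable def f (h : ω ^ 3 = 1) : Multiplicative (Fin 3 → ZMod 3) →* threeJ3 F ω :=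
  ((dg h).comp (AddMonoidHom.toMultiplicative L)).codRestrict _ fun v => dg_L_mem h v.toAdd

theorem lam_ne (hω : ω ≠ 0) (Z z : F9) : j3Lam F ω Z z ≠ 0 := by
  unfold j3Lam
  split_ifs
  · exact one_ne_zero
  · exact hω
  · exact pow_ne_zero _ hω
  · exact one_ne_zero

/-- The monomial matrices `D_Z` are invertible. -/
theorem exists_D (hω : ω ≠ 0) (Z : F9) : ∃ g : GL F9 F, (g : Matrix F9 F9 F) = j3D F ω Z := by
  let N : Matrix F9 F9 F := Matrix.of fun z w => if w = z + Z then (j3Lam F ω Z z)⁻¹ else 0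
  have h : j3D F ω Z * N = 1 := by
    ext w w'
    rw [mul_apply, Finset.sum_eq_single (w - Z)]
    · show (if w = w - Z + Z then j3Lam F ω Z (w - Z) else 0) *
        (if w' = w - Z + Z then (j3Lam F ω Z (w - Z))⁻¹ else 0) = _
      rw [sub_add_cancel, if_pos rfl, one_apply]
      by_cases hw : w = w'
      · rw [if_pos hw.symm, if_pos hw, mul_inv_cancel₀ (lam_ne hω _ _)]
      · rw [if_neg (fun h => hw h.symm), if_neg hw, mul_zero]
    · intro z _ hz
      have : ¬ w = z + Z := fun h => hz (by rw [h, add_sub_cancel_right])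
      show (if w = z + Z then j3Lam F ω Z z else 0) * _ = 0
      rw [if_neg this, zero_mul]
    · intro h
      exact absurd (Finset.mem_univ _) h
  exact ⟨⟨j3D F ω Z, N, h, mul_eq_one_comm.1 h⟩, rfl⟩

theorem L_eq_zero : ∀ v : Fin 3 → ZMod 3, (∀ Z : F9, L v Z = 0) → v = 0 := by
  intro v hv
  have h1 : v 0 * 1 + v 1 * 0 + v 2 * ((0 - 1) ^ 2 + (0 - 0) ^ 2) = 0 := hv (1, 0)
  have h2 : v 0 * 2 + v 1 * 0 + v 2 * ((0 - 2) ^ 2 + (0 - 0) ^ 2) = 0 := hv (2, 0)
  have h3 : v 0 * 0 + v 1 * 1 + v 2 * ((0 - 0) ^ 2 + (0 - 1) ^ 2) = 0 := hv (0, 1)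
  have key : ∀ a b c : ZMod 3, a * 1 + b * 0 + c * ((0 - 1) ^ 2 + (0 - 0) ^ 2) = 0 →
      a * 2 + b * 0 + c * ((0 - 2) ^ 2 + (0 - 0) ^ 2) = 0 →
      a * 0 + b * 1 + c * ((0 - 0) ^ 2 + (0 - 1) ^ 2) = 0 → a = 0 ∧ b = 0 ∧ c = 0 := by decide
  obtain ⟨e0, e1, e2⟩ := key _ _ _ h1 h2 h3
  funext i
  fin_cases i
  · exact e0
  · exact e1
  · exact e2

theorem center (h : ω ^ 3 = 1) (h1 : ω ≠ 1) (v : Fin 3 → ZMod 3)
    (hv : f h (Multiplicative.ofAdd v) ∈ Subgroup.center (threeJ3 F ω)) : v = 0 := by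
  have hω : ω ≠ 0 := fun h0 => by
    rw [h0, zero_pow (by norm_num)] at h
    exact zero_ne_one h
  apply L_eq_zero
  intro Z
  obtain ⟨g, hg⟩ := exists_D (F := F) hω Z
  have hm : g ∈ threeJ3 F ω := Subgroup.subset_closure (by
    show (g : Matrix F9 F9 F) ∈ j3Gens F ω
    rw [hg]
    exact Or.inl (Or.inl (Or.inr ⟨Z, rfl⟩)))
  have h2 := congrArg (fun x : threeJ3 F ω => ((x : GL F9 F) : Matrix F9 F9 F))
    (Subgroup.mem_center_iff.1 hv ⟨g, hm⟩)
  have h3 : j3D F ω Z * diagonal (fun z => omegaPow F ω (L v z)) =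
      diagonal (fun z => omegaPow F ω (L v z)) * j3D F ω Z := by
    rw [← hg]
    exact h2
  have h4 := congrFun (congrFun h3 Z) 0
  rw [mul_diagonal, diagonal_mul] at h4
  have h5 : j3D F ω Z Z 0 = 1 := by
    show (if Z = 0 + Z then j3Lam F ω Z 0 else 0) = 1
    rw [zero_add, if_pos rfl]
    unfold j3Lam
    rw [if_pos rfl]
  have h6 : L v 0 = 0 := by
    show v 0 * 0 + v 1 * 0 + v 2 * ((0 - 0) ^ 2 + (0 - 0) ^ 2) = 0
    ring
  rw [h5, one_mul, mul_one, h6, pow_zero'] at h4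
  exact pow_eq_one h h1 h4.symm

theorem not_rank [Fintype F] (hF : Fintype.card F = 4) (h : ω ^ 2 + ω + 1 = 0) : ¬ PRankLE 3 2 (J3 F ω) := by
  refine Cfsg.Agent.Omega.SQK.Rank.not_quot_of_hom _ (f (om_cube h))
    (center (om_cube h) (om_ne_one hF h)) (fun v => ?_) ?_
  · funext i
    show 3 • v i = 0
    rw [nsmul_eq_mul]
    exact mul_eq_zero_of_left (by decide) _
  · rw [Nat.card_eq_fintype_card, Fintype.card_fun, ZMod.card, Fintype.card_fin]
    norm_num

/-- **The 3-rank of `J₃`.** -/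
theorem row_j3 (G : Type u) [Group G] [Finite G] (h : Spor.IsoJ3 G) : ¬ PRankLE 3 2 G := by
  obtain ⟨F, _, _, ω, hF, hω, ⟨e⟩⟩ := h
  exact Cfsg.Agent.Omega.SQK.Rank.not_of_mulEquiv e (not_rank hF hω)

end Cfsg.Agent.Omega.Quasithin.Row.J3
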