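import Cfsg.Agent.Omega.Quasithin.Row.LyCover
import Cfsg.Agent.TypeM.FactsLy

/-!
# Table of S1731: the 3-rank of `Ly` is at least 3
-/

set_option autoImplicit false

namespace Cfsg.Agent.Omega.Quasithin.Row.Ly

universe u

theorem row_ly (G : Type u) [Group G] [Finite G] (h : Cfsg.Spor.IsoLy G) : ¬ Cfsg.PRankLE 3 2 G := by
  obtain ⟨-, -, -, ⟨L⟩⟩ := Cfsg.Agent.TypeM.FactsLy.facts h
  exact LyCover.not_rank_of_mt L

end Cfsg.Agent.Omega.Quasithin.Row.Ly
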