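import Cfsg.Agent.Omega.Quasithin.Row.E27
import Cfsg.Agent.TypeM.Two

/-!
# Table of S1731: groups with an involution centraliser `2.A₁₁` have 3-rank at least 3
-/

set_option autoImplicit false
set_option maxRecDepth 10000

namespace Cfsg.Agent.Omega.Quasithin.Row.LyCover

open Subgroup Equiv Cfsg.Agent.SporRec.TwoAn Cfsg.Agent.TypeM.Two Cfsg.Agent.Omega.Quasithin.Row.E27

def c1 : Perm (Fin 11) := swap 0 1 * swap 1 2
def c2 : Perm (Fin 11) := swap 3 4 * swap 4 5
def c3 : Perm (Fin 11) := swap 6 7 * swap 7 8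
def d2 : Perm (Fin 11) := swap 3 4 * swap 9 10
def d3 : Perm (Fin 11) := swap 6 7 * swap 9 10

theorem mem (a b c d : Fin 11) (hab : a ≠ b) (hcd : c ≠ d) : swap a b * swap c d ∈ alternatingGroup (Fin 11) := by
  rw [Perm.mem_alternatingGroup, Perm.sign_mul, Perm.sign_swap hab, Perm.sign_swap hcd]; rfl

/-- the criterion -/
theorem not_rank_of_cover {C : Type*} [Group C] [Finite C] (K : Cover (Fin 11) C) : ¬ Cfsg.PRankLE 3 2 C := by
  obtain ⟨x, hx, hx3⟩ := K.exists_odd_lift (σ := c1) (mem _ _ _ _ (by decide) (by decide)) (n := 3) (by decide) (by decide +kernel)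
  obtain ⟨y, hy, hy3⟩ := K.exists_odd_lift (σ := c2) (mem _ _ _ _ (by decide) (by decide)) (n := 3) (by decide) (by decide +kernel)
  obtain ⟨w, hw, hw3⟩ := K.exists_odd_lift (σ := c3) (mem _ _ _ _ (by decide) (by decide)) (n := 3) (by decide) (by decide +kernel)
  obtain ⟨b, hb⟩ := K.exists_lift (σ := d2) (mem _ _ _ _ (by decide) (by decide))
  obtain ⟨c, hc⟩ := K.exists_lift (σ := d3) (mem _ _ _ _ (by decide) (by decide))
  have ne : ∀ {g : C} {σ : Perm (Fin 11)}, K.π g = σ → σ ≠ 1 → g ≠ 1 := by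
    rintro g σ rfl h rfl
    exact h (map_one _)
  have cm : ∀ {g h : C}, g ^ 3 = 1 → K.π g * K.π h = K.π h * K.π g → g * h = h * g := fun h1 h2 =>
    K.commute_of_odd (n := 3) (by decide) h1 h2
  have cj : ∀ {g h : C}, g ^ 3 = 1 → K.π g * K.π h = K.π h * K.π g → h * g * h⁻¹ = g := fun h1 h2 => by
    rw [← cm h1 h2, mul_inv_cancel_right]
  have ci : ∀ {g h : C}, g ^ 3 = 1 → K.π h * K.π g * (K.π h)⁻¹ = (K.π g)⁻¹ → h * g * h⁻¹ = g⁻¹ := by
    intro g h h1 h2
    refine K.odd_lift_unique (n := 3) (by decide) ?_ ?_ ?_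
    · rw [conj_pow, h1, mul_one, mul_inv_cancel]
    · rw [inv_pow, h1, inv_one]
    · rw [map_mul, map_mul, map_inv, map_inv, h2]
  exact not_rank (b := b) (c := c) hx3 hy3 hw3 (ne hx (by decide)) (ne hy (by decide)) (ne hw (by decide))
    (cm hx3 (by rw [hx, hy]; decide +kernel)) (cm hx3 (by rw [hx, hw]; decide +kernel))
    (cm hy3 (by rw [hy, hw]; decide +kernel))
    (cj hx3 (by rw [hx, hb]; decide +kernel)) (ci hy3 (by rw [hy, hb]; decide +kernel))
    (cj hx3 (by rw [hx, hc]; decide +kernel)) (cj hy3 (by rw [hy, hc]; decide +kernel))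
    (ci hw3 (by rw [hw, hc]; decide +kernel))

theorem not_rank_of_mt {G : Type*} [Group G] [Finite G] (L : MT 11 G) : ¬ Cfsg.PRankLE 3 2 G := fun h =>
  not_rank_of_cover L.K (prank_of_injective (centralizer ({L.t} : Set G)).subtype (Subgroup.subtype_injective _) h)

end Cfsg.Agent.Omega.Quasithin.Row.LyCover
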