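import Cfsg.Agent.CoThreeStd.M12.Out
import Cfsg.Agent.Omega.Quasithin.Row.EvenOf

/-!
# `M₁₂` is of even characteristic (S1731, table)

`F = {0, 6, 1, 2}`: its pointwise stabiliser is a quaternion group with the involution `z`, its setwise stabiliser is
`C(z)`, of index 495; `Q` consists of the elements acting on `F` as an element of the four-group.
-/

set_option autoImplicit false

namespace Cfsg.Agent.Omega.Quasithin.M12

open Equiv Cfsg Cfsg.Agent.CoThreeStd.M12 Subgroup

/-- the four points -/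
def F : Finset (Fin 12) := {0, 6, 1, 2}

/-- the involution -/
def z : G12 := el [1, 4]

theorem zz : z * z = 1 := by
  rw [z, ← el_append, ← el_nil]
  exact el_eq (by decide +kernel)

theorem z_ne : z ≠ 1 := by
  rw [z, ← el_nil, Ne, el_eq_iff]
  decide +kernel

theorem fix_iff (i : Fin 12) : (z : P12) i = i ↔ i ∈ F := by
  have h : ∀ i : Fin 12, dg (wt [1, 4]) i = i ↔ i ∈ F := by decide +kernel
  rw [← h i, el_apply, Fin.ext_iff]
  rfl

/-- the elements of `W4` fix the four points -/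
theorem W4_fix : ∀ w ∈ W4, ∀ i ∈ F, dg (wt w) i = i := by decide +kernel

theorem el_W4_fix {w : List (Fin 6)} (hw : w ∈ W4) {i : Fin 12} (hi : i ∈ F) : (el w : P12) i = i :=
  Fin.ext (by rw [← el_apply]; exact W4_fix w hw i hi)

theorem trans_W4 (i : Fin 12) (hi : i ∉ F) : ∃ w ∈ W4, (el w : P12) 3 = i := by
  have h : ∀ i : Fin 12, i ∉ F → ∃ w ∈ W4, dg (wt w) 3 = i := by decide +kernel
  obtain ⟨w, hw, h1⟩ := h i hi
  exact ⟨w, hw, Fin.ext (by rw [← el_apply]; exact h1)⟩

/-- an element fixing the four points and the point 3 is trivial -/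
theorem eq_one_of_fix {x : G12} (h : ∀ i ∈ F, (x : P12) i = i) (h3 : (x : P12) 3 = 3) : x = 1 := by
  apply Subtype.ext
  refine Out.fix_five x.2 (insert 3 F) (by decide) fun i hi => ?_
  rcases Finset.mem_insert.1 hi with rfl | hi
  · exact h3
  · exact h i hi

/-- the pointwise stabiliser of `F` -/
theorem exists_W4 {x : G12} (h : ∀ i ∈ F, (x : P12) i = i) : ∃ w ∈ W4, x = el w := by
  have h3 : (x : P12) 3 ∉ F := by
    intro h3
    have h4 := h _ h3
    have h5 : (x : P12) 3 = 3 := (x : P12).injective h4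
    rw [h5] at h3
    exact absurd h3 (by decide)
  obtain ⟨w, hw, hw3⟩ := trans_W4 _ h3
  refine ⟨w, hw, ?_⟩
  have h6 : (el w)⁻¹ * x = 1 := by
    apply eq_one_of_fix
    · intro i hi
      exact fix_inv_mul ((h i hi).trans (el_W4_fix hw hi).symm)
    · exact fix_inv_mul hw3.symm
  exact (inv_mul_eq_one.1 h6).symm

theorem eq_z {x : G12} (h : ∀ i ∈ F, (x : P12) i = i) (hx : x * x = 1) (h1 : x ≠ 1) : x = z := by
  obtain ⟨w, hw, rfl⟩ := exists_W4 h
  have hd : ∀ w ∈ W4, wt (w ++ w) = wt [] → wt w = wt [] ∨ wt w = wt [1, 4] := by decide +kernel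
  rw [← el_append, ← el_nil] at hx
  rcases hd w hw (el_eq_iff.1 hx) with h2 | h2
  · exact absurd (by rw [← el_nil]; exact el_eq h2) h1
  · exact el_eq h2

theorem pow_four {x : G12} (h : ∀ i ∈ F, (x : P12) i = i) : x ^ 4 = 1 := by
  obtain ⟨w, hw, rfl⟩ := exists_W4 h
  have hd : ∀ w ∈ W4, wt (w ++ w ++ w ++ w) = wt [] := by decide +kernel
  have h1 := el_eq (hd w hw)
  rw [el_append, el_append, el_append, el_nil] at h1
  rw [← h1, pow_succ, pow_succ, pow_succ, pow_one]

/-- elements commuting with `z` preserve `F` -/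
theorem mem_F {x : G12} (h : x * z = z * x) {i : Fin 12} (hi : i ∈ F) : (x : P12) i ∈ F := by
  rw [← fix_iff] at hi ⊢
  have h1 := congrArg (fun y : G12 => (y : P12) i) h
  change (x : P12) ((z : P12) i) = (z : P12) ((x : P12) i) at h1
  rw [hi] at h1
  exact h1.symm

theorem inv_mem_F {x : G12} (h : ∀ i ∈ F, (x : P12) i ∈ F) {i : Fin 12} (hi : i ∈ F) : (x : P12)⁻¹ i ∈ F := by
  have h1 : F.image (x : P12) = F := by
    apply Finset.eq_of_subset_of_card_le
    · intro j hj
      obtain ⟨i, hi, rfl⟩ := Finset.mem_image.1 hj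
      exact h i hi
    · rw [Finset.card_image_of_injective _ (x : P12).injective]
  rw [← h1] at hi
  obtain ⟨j, hj, hji⟩ := Finset.mem_image.1 hi
  rw [← hji]
  show (x : P12).symm ((x : P12) j) ∈ F
  rw [Equiv.symm_apply_apply]
  exact hj

/-- the setwise stabiliser of `F` centralises `z` -/
theorem comm_z {x : G12} (h : ∀ i ∈ F, (x : P12) i ∈ F) : x * z = z * x := by
  have h1 : x * z * x⁻¹ = z := by
    apply eq_z
    · intro i hi
      show (x : P12) ((z : P12) ((x : P12)⁻¹ i)) = i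
      rw [(fix_iff _).2 (inv_mem_F h hi)]
      exact Equiv.apply_symm_apply (x : P12) i
    · calc x * z * x⁻¹ * (x * z * x⁻¹) = x * (z * z) * x⁻¹ := by group
        _ = 1 := by rw [zz]; group
    · intro h1
      apply z_ne
      rw [mul_inv_eq_one] at h1
      exact mul_eq_left.1 h1
  exact mul_inv_eq_iff_eq_mul.1 h1

/-! ### the index of `C(z)` -/

theorem trans_four (a b c d : Fin 12) (hab : a ≠ b) (hac : a ≠ c) (had : a ≠ d) (hbc : b ≠ c) (hbd : b ≠ d)
    (hcd : c ≠ d) : ∃ x : G12, (x : P12) 0 = a ∧ (x : P12) 6 = b ∧ (x : P12) 1 = c ∧ (x : P12) 2 = d := by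
  have ev : ∀ (w : List (Fin 6)) (i j : Fin 12), dg (wt w) i = j → (el w : P12) i = j := fun w i j h =>
    Fin.ext (by rw [← el_apply]; exact h)
  obtain ⟨w0, -, e0⟩ := trans0 a
  have f0 := ev w0 0 a e0
  set u0 : P12 := (el w0 : P12) with hu0
  have n1 : u0.symm b ≠ 0 := fun h => hab (by rw [← f0, ← h, Equiv.apply_symm_apply])
  obtain ⟨w1, -, e1, e10⟩ := trans1 (u0.symm b) n1
  have f1 := ev w1 6 _ e1
  have f10 := ev w1 0 0 e10
  set u1 : P12 := (el w1 : P12) with hu1
  have c0 : u1.symm (u0.symm c) ≠ 0 := fun h => hac (by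
    rw [← f0, ← f10, ← h, Equiv.apply_symm_apply, Equiv.apply_symm_apply])
  have c6 : u1.symm (u0.symm c) ≠ 6 := fun h => hbc (by
    have := congrArg u1 h
    rw [Equiv.apply_symm_apply, f1] at this
    exact (u0.symm.injective this).symm)
  obtain ⟨w2, -, e2, e20, e26⟩ := trans2 _ c0 c6
  have f2 := ev w2 1 _ e2
  have f20 := ev w2 0 0 e20
  have f26 := ev w2 6 6 e26
  set u2 : P12 := (el w2 : P12) with hu2
  have d0 : u2.symm (u1.symm (u0.symm d)) ≠ 0 := fun h => had (by
    rw [← f0, ← f10, ← f20, ← h, Equiv.apply_symm_apply, Equiv.apply_symm_apply, Equiv.apply_symm_apply])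
  have d6 : u2.symm (u1.symm (u0.symm d)) ≠ 6 := fun h => hbd (by
    have := congrArg u2 h
    rw [Equiv.apply_symm_apply, f26] at this
    have := congrArg u1 this
    rw [Equiv.apply_symm_apply, f1] at this
    exact (u0.symm.injective this).symm)
  have d1 : u2.symm (u1.symm (u0.symm d)) ≠ 1 := fun h => hcd (by
    have := congrArg u2 h
    rw [Equiv.apply_symm_apply, f2] at this
    exact (u0.symm.injective (u1.symm.injective this)).symm)
  obtain ⟨w3, -, e3, e30, e36, e31⟩ := trans3 _ d0 d6 d1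
  have f3 := ev w3 2 _ e3
  have f30 := ev w3 0 0 e30
  have f36 := ev w3 6 6 e36
  have f31 := ev w3 1 1 e31
  refine ⟨el w0 * el w1 * el w2 * el w3, ?_, ?_, ?_, ?_⟩
  · show u0 (u1 (u2 ((el w3 : P12) 0))) = a
    rw [f30, f20, f10, f0]
  · show u0 (u1 (u2 ((el w3 : P12) 6))) = b
    rw [f36, f26, f1, Equiv.apply_symm_apply]
  · show u0 (u1 (u2 ((el w3 : P12) 1))) = c
    rw [f31, f2, Equiv.apply_symm_apply, Equiv.apply_symm_apply]
  · show u0 (u1 (u2 ((el w3 : P12) 2))) = d
    rw [f3, Equiv.apply_symm_apply, Equiv.apply_symm_apply, Equiv.apply_symm_apply]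

open scoped Pointwise

theorem mem_centralizer_iff' (x : G12) : x ∈ centralizer ({z} : Set G12) ↔ x * z = z * x :=
  mem_centralizer_singleton_iff

theorem stabilizer_eq : MulAction.stabilizer G12 F = centralizer ({z} : Set G12) := by
  ext x
  rw [MulAction.mem_stabilizer_iff, mem_centralizer_iff']
  constructor
  · intro h
    apply comm_z
    intro i hi
    rw [← h]
    exact Finset.smul_mem_smul_finset (a := x) hi
  · intro h
    apply Finset.eq_of_subset_of_card_le
    · intro j hj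
      obtain ⟨i, hi, rfl⟩ := Finset.mem_smul_finset.1 hj
      exact mem_F h hi
    · rw [Finset.card_smul_finset]

theorem orbit_eq : MulAction.orbit G12 F = {s : Finset (Fin 12) | s.card = 4} := by
  ext s
  constructor
  · rintro ⟨x, rfl⟩
    show (x • F).card = 4
    rw [Finset.card_smul_finset]
    rfl
  · intro hs
    obtain ⟨a, t, hat, rfl, ht⟩ := Finset.card_eq_succ.1 (show s.card = 3 + 1 from hs)
    obtain ⟨b, c, d, hbc, hbd, hcd, rfl⟩ := Finset.card_eq_three.1 ht
    simp only [Finset.mem_insert, Finset.mem_singleton, not_or] at hat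
    obtain ⟨x, h0, h6, h1, h2⟩ := trans_four a b c d hat.1 hat.2.1 hat.2.2 hbc hbd hcd
    refine ⟨x, ?_⟩
    have e : ∀ i : Fin 12, x • i = (x : P12) i := fun i => rfl
    show x • F = _
    rw [F, Finset.smul_finset_insert, Finset.smul_finset_insert, Finset.smul_finset_insert,
      Finset.smul_finset_singleton, e, e, e, e, h0, h6, h1, h2]

theorem index_eq : (centralizer ({z} : Set G12)).index = 495 := by
  rw [← stabilizer_eq, MulAction.index_stabilizer, orbit_eq]
  have h : {s : Finset (Fin 12) | s.card = 4} = ((Finset.univ : Finset (Fin 12)).powersetCard 4 : Set _) := by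
    ext s
    simp [Finset.mem_powersetCard]
  rw [h, Set.ncard_coe_finset, Finset.card_powersetCard]
  decide

/-! ### the action of `C(z)` on `F` and the normal subgroup `Q` -/

/-- the four points as a type -/
abbrev X : Type := {i : Fin 12 // i ∈ F}

theorem mem_F_iff {x : G12} (h : x * z = z * x) (i : Fin 12) : (x : P12) i ∈ F ↔ i ∈ F := by
  constructor
  · intro hi
    have h1 := inv_mem_F (fun i hi => mem_F h hi) hi
    rwa [show (x : P12)⁻¹ ((x : P12) i) = i from Equiv.symm_apply_apply _ i] at h1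
  · exact mem_F h

/-- the action -/
def psi : centralizer ({z} : Set G12) →* Perm X where
  toFun x := (x : P12).subtypePerm fun i => mem_F_iff ((mem_centralizer_iff' _).1 x.2) i
  map_one' := by
    ext i
    rfl
  map_mul' x y := by
    ext i
    rfl

theorem psi_apply (x : centralizer ({z} : Set G12)) (i : X) : ((psi x i : X) : Fin 12) = (x : P12) i := rfl

/-- the elements of the four-group -/
def Good (σ : Perm X) : Prop := σ = 1 ∨ ∀ i, σ i ≠ i ∧ σ (σ i) = i

instance : DecidablePred Good := fun σ => by unfold Good; infer_instance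

theorem good_mul : ∀ σ τ : Perm X, Good σ → Good τ → Good (σ * τ) := by decide +kernel

theorem good_sq {σ : Perm X} (h : Good σ) : σ * σ = 1 := by
  rcases h with rfl | h
  · rfl
  · exact Equiv.ext fun i => (h i).2

theorem good_inv {σ : Perm X} (h : Good σ) : Good σ⁻¹ := by
  rw [inv_eq_of_mul_eq_one_left (good_sq h)]
  exact h

theorem good_conj {σ : Perm X} (h : Good σ) (τ : Perm X) : Good (τ * σ * τ⁻¹) := by
  rcases h with rfl | h
  · left; group
  · right
    intro i
    show τ (σ (τ.symm i)) ≠ i ∧ τ (σ (τ.symm (τ (σ (τ.symm i))))) = i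
    rw [Equiv.symm_apply_apply, (h _).2, Equiv.apply_symm_apply]
    refine ⟨fun h1 => (h (τ.symm i)).1 (τ.injective ?_), rfl⟩
    rw [h1, Equiv.apply_symm_apply]

/-- the four-group -/
def V : Subgroup (Perm X) where
  carrier := {σ | Good σ}
  one_mem' := Or.inl rfl
  mul_mem' := fun h h' => good_mul _ _ h h'
  inv_mem' := fun h => good_inv h

/-- the normal subgroup of order 32 -/
def Q : Subgroup G12 := (V.comap psi).map (centralizer ({z} : Set G12)).subtype

theorem mem_Q {x : G12} : x ∈ Q ↔ ∃ h : x * z = z * x, Good (psi ⟨x, (mem_centralizer_iff' x).2 h⟩) := by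
  constructor
  · rintro ⟨y, hy, rfl⟩
    exact ⟨(mem_centralizer_iff' _).1 y.2, hy⟩
  · rintro ⟨h, h'⟩
    exact ⟨⟨x, (mem_centralizer_iff' x).2 h⟩, h', rfl⟩

theorem mem_Q_of_fix {x : G12} (h : ∀ i ∈ F, (x : P12) i = i) : x ∈ Q := by
  refine mem_Q.2 ⟨comm_z fun i hi => by rw [h i hi]; exact hi, Or.inl ?_⟩
  exact Equiv.ext fun i => Subtype.ext (h i i.2)

theorem conj_mem_Q (g : G12) (hg : g * z = z * g) (x : G12) (hx : x ∈ Q) : g * x * g⁻¹ ∈ Q := by
  obtain ⟨h, h'⟩ := mem_Q.1 hx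
  let g' : centralizer ({z} : Set G12) := ⟨g, (mem_centralizer_iff' g).2 hg⟩
  let x' : centralizer ({z} : Set G12) := ⟨x, (mem_centralizer_iff' x).2 h⟩
  have h1 : Good (psi (g' * x' * g'⁻¹)) := by
    rw [map_mul, map_mul, map_inv]
    exact good_conj h' _
  exact mem_Q.2 ⟨(mem_centralizer_iff' _).1 (g' * x' * g'⁻¹).2, h1⟩

theorem sq_fix {x : G12} (hx : x ∈ Q) : ∀ i ∈ F, ((x * x : G12) : P12) i = i := by
  obtain ⟨h, h'⟩ := mem_Q.1 hx
  intro i hi
  have h1 := good_sq h'
  have h2 := congrArg (fun σ : Perm X => ((σ ⟨i, hi⟩ : X) : Fin 12)) h1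
  exact h2

theorem isPGroup_Q : IsPGroup 2 Q := by
  intro x
  refine ⟨3, Subtype.ext ?_⟩
  have h1 := pow_four (sq_fix x.2)
  show (x : G12) ^ 2 ^ 3 = 1
  rw [← pow_two, ← pow_mul] at h1
  exact h1

/-- the two elements acting as the double transpositions -/
theorem q1_mem : lt 0 ∈ Q := by
  have hz : lt 0 * z = z * lt 0 := by
    rw [← el_single, z, ← el_append, ← el_append]
    exact el_eq (by decide +kernel)
  refine mem_Q.2 ⟨hz, Or.inr ?_⟩
  have hd : ∀ i : X, dg (wt [0]) i ≠ i ∧ dg (wt [0]) (dg (wt [0]) i) = i := by decide +kernel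
  intro i
  have e : ∀ j : Fin 12, ((lt 0 : G12) : P12) j = dg (wt [0]) j := fun j => by rw [el_apply, el_single]
  constructor
  · intro h
    apply (hd i).1
    rw [← e]
    exact congrArg (fun k : X => ((k : Fin 12) : ℕ)) h
  · apply Subtype.ext
    apply Fin.ext
    show ((((lt 0 : G12) : P12) (((lt 0 : G12) : P12) i) : Fin 12) : ℕ) = i
    rw [e, e]
    exact (hd i).2

theorem q2_mem : lt 1 ∈ Q := by
  have hz : lt 1 * z = z * lt 1 := by
    rw [← el_single, z, ← el_append, ← el_append]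
    exact el_eq (by decide +kernel)
  refine mem_Q.2 ⟨hz, Or.inr ?_⟩
  have hd : ∀ i : X, dg (wt [1]) i ≠ i ∧ dg (wt [1]) (dg (wt [1]) i) = i := by decide +kernel
  intro i
  have e : ∀ j : Fin 12, ((lt 1 : G12) : P12) j = dg (wt [1]) j := fun j => by rw [el_apply, el_single]
  constructor
  · intro h
    apply (hd i).1
    rw [← e]
    exact congrArg (fun k : X => ((k : Fin 12) : ℕ)) h
  · apply Subtype.ext
    apply Fin.ext
    show ((((lt 1 : G12) : P12) (((lt 1 : G12) : P12) i) : Fin 12) : ℕ) = i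
    rw [e, e]
    exact (hd i).2

theorem good_of_comm : ∀ τ₁ : Perm X, (∀ i, τ₁ i ≠ i ∧ τ₁ (τ₁ i) = i) → ∀ τ₂ : Perm X,
    (∀ i, τ₂ i ≠ i ∧ τ₂ (τ₂ i) = i) → τ₁ ≠ τ₂ → ∀ σ : Perm X, σ * τ₁ = τ₁ * σ → σ * τ₂ = τ₂ * σ → Good σ := by
  decide +kernel

theorem lt_apply (k : Fin 6) (j : Fin 12) : (((lt k : G12) : P12) j : ℕ) = dg (wt [k]) j := by
  rw [el_apply, el_single]

theorem zero_mem : (0 : Fin 12) ∈ F := by decide

theorem self_Q (g : G12) (hg : g * z = z * g) (h : ∀ x ∈ Q, g * x = x * g) : g ∈ Q := by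
  obtain ⟨h1, h1'⟩ := mem_Q.1 q1_mem
  obtain ⟨h2, h2'⟩ := mem_Q.1 q2_mem
  have e1 : (((lt 0 : G12) : P12) 0 : ℕ) = 6 := (lt_apply 0 0).trans (by decide +kernel)
  have e2 : (((lt 1 : G12) : P12) 0 : ℕ) = 1 := (lt_apply 1 0).trans (by decide +kernel)
  refine mem_Q.2 ⟨hg, ?_⟩
  refine good_of_comm (psi ⟨lt 0, (mem_centralizer_iff' _).2 h1⟩) ?_ (psi ⟨lt 1, (mem_centralizer_iff' _).2 h2⟩) ?_
    ?_ _ ?_ ?_
  · rcases h1' with h3 | h3
    · exfalso
      have h4 := congrArg (fun σ : Perm X => (((σ ⟨0, zero_mem⟩ : X) : Fin 12) : ℕ)) h3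
      have h5 : (((lt 0 : G12) : P12) 0 : ℕ) = 0 := h4
      omega
    · exact h3
  · rcases h2' with h3 | h3
    · exfalso
      have h4 := congrArg (fun σ : Perm X => (((σ ⟨0, zero_mem⟩ : X) : Fin 12) : ℕ)) h3
      have h5 : (((lt 1 : G12) : P12) 0 : ℕ) = 0 := h4
      omega
    · exact h3
  · intro h3
    have h4 := congrArg (fun σ : Perm X => (((σ ⟨0, zero_mem⟩ : X) : Fin 12) : ℕ)) h3
    have h5 : (((lt 0 : G12) : P12) 0 : ℕ) = (((lt 1 : G12) : P12) 0 : ℕ) := h4
    omega
  · rw [← map_mul, ← map_mul]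
    congr 1
    exact Subtype.ext (h _ q1_mem)
  · rw [← map_mul, ← map_mul]
    congr 1
    exact Subtype.ext (h _ q2_mem)

/-- the involutions of `Z(Q)` -/
theorem eq_z_of_comm {y : G12} (hy : y ∈ Q) (hyy : y * y = 1) (hy1 : y ≠ 1) (h : ∀ x ∈ Q, x * y = y * x) :
    y = z := by
  obtain ⟨hz, -⟩ := mem_Q.1 hy
  have hmem : ∀ w ∈ W4, el w ∈ Q := fun w hw => mem_Q_of_fix fun i hi => el_W4_fix hw hi
  have hcomm : ∀ w ∈ W4, ∀ i : Fin 12, (y : P12) ((el w : P12) i) = (el w : P12) ((y : P12) i) := by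
    intro w hw i
    exact congrArg (fun u : G12 => (u : P12) i) (h _ (hmem w hw)).symm
  have h3 : (y : P12) 3 ∉ F := fun h3 => by
    have := (mem_F_iff hz 3).1 h3
    exact absurd this (by decide)
  obtain ⟨w, hw, hw3⟩ := trans_W4 _ h3
  -- `k = el w` has `k² = 1`
  have hk : el w * el w = 1 := by
    apply eq_one_of_fix
    · intro i hi
      show (el w : P12) ((el w : P12) i) = i
      rw [el_W4_fix hw hi, el_W4_fix hw hi]
    · show (el w : P12) ((el w : P12) 3) = 3
      rw [hw3, ← hcomm w hw, hw3]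
      exact congrArg (fun u : G12 => (u : P12) 3) hyy
  -- `k` is central in `Q`
  have hkz : el w = 1 ∨ el w = z := by
    by_cases h1 : el w = 1
    · exact Or.inl h1
    · exact Or.inr (eq_z (fun i hi => el_W4_fix hw hi) hk h1)
  have hkc : ∀ v ∈ W4, ∀ i : Fin 12, (el w : P12) ((el v : P12) i) = (el v : P12) ((el w : P12) i) := by
    intro v hv i
    have h1 : el w * el v = el v * el w := by
      rcases hkz with h2 | h2
      · rw [h2, one_mul, mul_one]
      · rw [h2]
        exact (mem_Q.1 (hmem v hv)).1.symm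
    exact congrArg (fun u : G12 => (u : P12) i) h1
  -- `y` agrees with `k` outside `F`
  have hag : ∀ i : Fin 12, i ∉ F → (y : P12) i = (el w : P12) i := by
    intro i hi
    obtain ⟨v, hv, rfl⟩ := trans_W4 i hi
    rw [hcomm v hv, ← hw3, hkc v hv]
  have hyk : y = el w := by
    have h6 : (el w)⁻¹ * y = 1 := by
      apply Subtype.ext
      refine Out.fix_five ((el w)⁻¹ * y).2 (Finset.univ \ F) (by decide) fun i hi => ?_
      exact fix_inv_mul (hag i (Finset.mem_sdiff.1 hi).2)
    exact (inv_mul_eq_one.1 h6).symm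
  rcases hkz with h1 | h1
  · exact absurd (hyk.trans h1) hy1
  · exact hyk.trans h1

theorem exists_sylow : ∃ S : Sylow 2 G12, ∀ x ∈ S, x * z = z * x :=
  EvenOf.exists_sylow (by rw [index_eq]; decide)

theorem even : IsOfEvenCharacteristic G12 :=
  EvenOf.even_of_one zz isPGroup_Q conj_mem_Q self_Q exists_sylow fun y hy hyy hy1 h => by
    rw [eq_z_of_comm hy hyy hy1 h]

/-- **Row `M₁₂`.** -/
theorem row_m12 (G : Type*) [Group G] [Finite G] (h : Spor.IsoM12 G) : IsOfEvenCharacteristic G := by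
  obtain ⟨e⟩ := h
  exact EvenOf.even_of_equiv (e.trans equiv) even

end Cfsg.Agent.Omega.Quasithin.M12
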