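import Cfsg.Agent.Omega.Quasithin.Row.E27Ne
import Cfsg.Agent.McLType.ThreeElts

/-!
# Table of S1731: the 3-rank of `McL`, `Co₂`, `Co₃`, `Co₁` is at least 3
-/

set_option autoImplicit false

namespace Cfsg.Agent.Omega.Quasithin.Row.McL

open Subgroup Cfsg Cfsg.Agent.Omega.Quasithin.Row.E27 Cfsg.Agent.Omega.Quasithin.Row.E27Ne
open Cfsg.Agent.SporadicStructure.PermChain Cfsg.Agent.McLType.X275
  Cfsg.Agent.McLType.Gens Cfsg.Agent.McLType.Model Cfsg.Agent.McLType.ThreeElts

theorem comm_of_rel {i j : ℕ} (h : (i, j, [j]) ∈ rels3) (hi : i < 6) (hj : j < 6) : π i * π j = π j * π i := by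
  have h := List.all_eq_true.1 rels_all _ h
  change relOK i j [j] = true at h
  rw [relOK, Bool.and_eq_true] at h
  refine Equiv.ext fun x => Fin.ext ?_
  have ha := evalπ [i, j] (by intro s hs; simp only [List.mem_cons, List.not_mem_nil, or_false] at hs; omega) x
  have hb := evalπ ([j] ++ [i]) (by intro s hs; simp only [List.mem_append, List.mem_cons, List.not_mem_nil, or_false] at hs; omega) x
  have hc : ([i, j].map π).prod = π i * π j := by simp
  have hd : (([j] ++ [i]).map π).prod = π j * π i := by simp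
  rw [hc] at ha
  rw [hd] at hb
  rw [ha, hb]
  exact Nat.eq_of_beq_eq_true (allBelow_spec _ _ h.2 x x.2)

theorem mem_range (s : ℕ) : π s ∈ ψ.range := by
  unfold π
  apply list_prod_mem
  intro x hx
  obtain ⟨k, -, rfl⟩ := List.mem_map.1 hx
  obtain ⟨g, hg⟩ := exists_gen k
  exact ⟨g, hg⟩

/-- the images of the point 1 -/
theorem imgs : ∀ i : Fin 3, ∀ j : Fin 3, evalWord 9 pt [5] 1 ≠ evalWord 9 pt (List.replicate i 3 ++ List.replicate j 4) 1 := by
  decide +kernel

theorem imgs' : ∀ i : Fin 3, evalWord 9 pt [4] 1 ≠ evalWord 9 pt (List.replicate i 3) 1 := by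
  decide +kernel

theorem img : evalWord 9 pt [3] 1 ≠ 1 := by decide +kernel

theorem not_rank_G1 : ¬ PRankLE 3 2 G1 := by
  have hfin : Finite G1 := Nat.finite_of_card_ne_zero (by rw [card_G1]; norm_num)
  refine not_rank_of_map ψ ψ_injective (π_cube 3 (by norm_num)) (π_cube 4 (by norm_num)) (π_cube 5 (by norm_num))
    (comm_of_rel (by decide) (by norm_num) (by norm_num)) (comm_of_rel (by decide) (by norm_num) (by norm_num))
    (comm_of_rel (by decide) (by norm_num) (by norm_num)) ?_ ?_ ?_ (mem_range 3) (mem_range 4) (mem_range 5)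
  · intro h
    have h1 := evalπ [3] (by simp) (1 : Fin 275)
    rw [List.map_singleton, List.prod_singleton, h] at h1
    exact img h1.symm
  · intro i hi h
    have h1 := evalπ [4] (by simp) (1 : Fin 275)
    have h2 := evalπ (List.replicate i 3) (by
      intro s hs; rw [List.eq_of_mem_replicate hs]; norm_num) (1 : Fin 275)
    rw [List.map_replicate, List.prod_replicate, ← h] at h2
    rw [List.map_singleton, List.prod_singleton] at h1
    exact imgs' ⟨i, hi⟩ (h1.symm.trans h2)
  · intro i hi j hj h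
    have h1 := evalπ [5] (by simp) (1 : Fin 275)
    have h2 := evalπ (List.replicate i 3 ++ List.replicate j 4) (by
      intro s hs
      rw [List.mem_append] at hs
      rcases hs with hs | hs <;> rw [List.eq_of_mem_replicate hs] <;> norm_num) (1 : Fin 275)
    rw [List.map_append, List.map_replicate, List.map_replicate, List.prod_append, List.prod_replicate,
      List.prod_replicate, ← h] at h2
    rw [List.map_singleton, List.prod_singleton] at h1
    exact imgs ⟨i, hi⟩ ⟨j, hj⟩ (h1.symm.trans h2)

theorem not_rank_McL : ¬ PRankLE 3 2 Spor.McL := by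
  obtain ⟨e⟩ := isoMcL_G1
  intro h1
  exact not_rank_G1 (prank_of_injective e.toMonoidHom e.injective h1)

theorem simple_McL : IsSimpleGroup Spor.McL := by
  obtain ⟨e⟩ := isoMcL_G1
  have := isMcL_G1.1
  have : Nontrivial Spor.McL := e.symm.toEquiv.nontrivial
  exact IsSimpleGroup.isSimpleGroup_of_surjective e.toMonoidHom e.surjective

theorem not_rank_Co3 : ¬ PRankLE 3 2 Spor.Co3 := fun h =>
  not_rank_McL (prank_of_injective (Subgroup.inclusion (inf_le_left : Spor.McL ≤ Spor.Co3))
    (Subgroup.inclusion_injective _) h)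

theorem McL_le_Co2 : Spor.McL ≤ Spor.Co2 := fun _ hx => ⟨hx.1.1, hx.2⟩

theorem not_rank_Co2 : ¬ PRankLE 3 2 Spor.Co2 := fun h =>
  not_rank_McL (prank_of_injective (Subgroup.inclusion McL_le_Co2) (Subgroup.inclusion_injective _) h)

theorem McL_le_Co0 : Spor.McL ≤ Co0 := fun _ hx => hx.1.1

/-- `McL → Co₀ → Co₁` -/
noncomputable def toCo1 : Spor.McL →* Spor.Co1 :=
  (QuotientGroup.mk' (center Co0)).comp (Subgroup.inclusion McL_le_Co0)

theorem toCo1_injective : Function.Injective toCo1 := by
  have hs := simple_McL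
  rw [← MonoidHom.ker_eq_bot_iff]
  rcases IsSimpleGroup.eq_bot_or_eq_top_of_normal toCo1.ker inferInstance with h | h
  · exact h
  · exfalso
    apply not_rank_McL
    -- `McL` would be commutative
    have hc : ∀ a b : Spor.McL, a * b = b * a := by
      intro a b
      have h1 : a ∈ toCo1.ker := by rw [h]; trivial
      have h2 : Subgroup.inclusion McL_le_Co0 a ∈ center Co0 := by
        rw [MonoidHom.mem_ker] at h1
        exact (QuotientGroup.eq_one_iff _).1 h1
      have h3 := (mem_center_iff.1 h2) (Subgroup.inclusion McL_le_Co0 b)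
      rw [← map_mul, ← map_mul] at h3
      exact (Subgroup.inclusion_injective McL_le_Co0 h3).symm
    have hG : IsMulCommutative Spor.McL := ⟨⟨hc⟩⟩
    have hp : (Nat.card Spor.McL).Prime := Group.is_simple_iff_prime_card.1 hs
    obtain ⟨e⟩ := isoMcL_G1
    rw [← Nat.card_congr e.toEquiv, card_G1] at hp
    norm_num at hp

theorem not_rank_Co1 : ¬ PRankLE 3 2 Spor.Co1 := fun h => not_rank_McL (prank_of_injective toCo1 toCo1_injective h)

universe u

theorem row_mcl (G : Type u) [Group G] [Finite G] (h : Spor.IsoMcL G) : ¬ PRankLE 3 2 G := by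
  obtain ⟨e⟩ := h
  exact fun h1 => not_rank_McL (prank_of_injective e.symm.toMonoidHom e.symm.injective h1)

theorem row_co3 (G : Type u) [Group G] [Finite G] (h : Spor.IsoCo3 G) : ¬ PRankLE 3 2 G := by
  obtain ⟨e⟩ := h
  exact fun h1 => not_rank_Co3 (prank_of_injective e.symm.toMonoidHom e.symm.injective h1)

theorem row_co2 (G : Type u) [Group G] [Finite G] (h : Spor.IsoCo2 G) : ¬ PRankLE 3 2 G := by
  obtain ⟨e⟩ := h
  exact fun h1 => not_rank_Co2 (prank_of_injective e.symm.toMonoidHom e.symm.injective h1)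

theorem row_co1 (G : Type u) [Group G] [Finite G] (h : Spor.IsoCo1 G) : ¬ PRankLE 3 2 G := by
  obtain ⟨e⟩ := h
  exact fun h1 => not_rank_Co1 (prank_of_injective e.symm.toMonoidHom e.symm.injective h1)

end Cfsg.Agent.Omega.Quasithin.Row.McL
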