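import Cfsg.Agent.Omega.Quasithin.Row.E27
import Cfsg.Agent.KFacts.MulSpor.ONWords
import Cfsg.Prelude.Def_Sporadic

/-!
# Table of S1731: the 3-rank of the O'Nan group is at least 3 (helper416)

`x = ab`, `y = g x g⁻¹`, `w = de` commute and have order 3; `g y g⁻¹ = x⁻¹`, and `d` centralises `x`, `y` and inverts `w`.
The words are checked in the 45-dimensional representation.
-/

set_option autoImplicit false
set_option maxRecDepth 100000

namespace Cfsg.Agent.Omega.Quasithin.Row.ON

open Subgroup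
open Cfsg.Spor (ON IsoON)
open Cfsg.Spor.ON (Gen)
open Cfsg.Agent.Lib.PackMat Cfsg.Agent.SporadicB.ON45Data Cfsg.Agent.SporadicB.ON45Rels
  Cfsg.Agent.SporadicB.ON45Word Cfsg.Agent.SporadicB.ONHom Cfsg.Agent.SporadicB.ON45Core
open Cfsg.Agent.KFacts.MulSpor.ON (w w_append w_one w_cons iw w_iw okw rel eqw)

/-- **Criterion.** Three commuting elements of order 3; `g` acts on `⟨x, y⟩` with order 4; `c` centralises `x`, `y` and
inverts `w`. -/
theorem not_rank_four {G : Type*} [Group G] [Finite G] {x y w g c : G} (hx : x ^ 3 = 1) (hy : y ^ 3 = 1) (hw : w ^ 3 = 1)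
    (hx1 : x ≠ 1) (hw1 : w ≠ 1) (hxy : x * y = y * x) (hxw : x * w = w * x) (hyw : y * w = w * y)
    (hgx : g * x * g⁻¹ = y) (hgy : g * y * g⁻¹ = x⁻¹) (hcx : c * x * c⁻¹ = x) (hcy : c * y * c⁻¹ = y)
    (hcw : c * w * c⁻¹ = w⁻¹) : ¬ Cfsg.PRankLE 3 2 G := by
  intro h
  have hsq : ∀ g : G, g ^ 3 = 1 → g = g⁻¹ → g = 1 := by
    intro g h3 h2
    have h4 : g * g = 1 := by nth_rewrite 2 [h2]; exact mul_inv_cancel g
    rw [pow_succ, pow_two, h4, one_mul] at h3
    exact h3
  have hfix : ∀ (k : G) (s : Set G), (∀ z ∈ s, k * z * k⁻¹ = z) → ∀ z ∈ closure s, k * z * k⁻¹ = z := by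
    intro k s hs z hz
    induction hz using closure_induction with
    | mem z hz => exact hs z hz
    | one => group
    | mul z z' _ _ ih1 ih2 =>
      calc k * (z * z') * k⁻¹ = (k * z * k⁻¹) * (k * z' * k⁻¹) := by group
        _ = z * z' := by rw [ih1, ih2]
    | inv z _ ih =>
      calc k * z⁻¹ * k⁻¹ = (k * z * k⁻¹)⁻¹ := by group
        _ = z⁻¹ := by rw [ih]
  let A₁ : Subgroup G := closure {x}
  let A₂ : Subgroup G := closure {x, y}
  let A₃ : Subgroup G := closure {x, y, w}
  obtain ⟨hc, h3⟩ := E27.pow_closure (s := ({x, y, w} : Set G)) (by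
    rintro p (rfl | rfl | rfl) q (rfl | rfl | rfl) <;> first | rfl | assumption | (symm; assumption)) (by
    rintro p (rfl | rfl | rfl) <;> assumption)
  have h12 : A₁ ≤ A₂ := closure_mono (by simp)
  have h23 : A₂ ≤ A₃ := closure_mono (by
    rintro p (rfl | rfl) <;> simp)
  have hp : IsPGroup 3 A₃ := fun z => ⟨1, Subtype.ext (by simpa using h3 z.1 z.2)⟩
  have hlt0 : (⊥ : Subgroup G) < A₁ := by
    rw [bot_lt_iff_ne_bot]
    intro h0
    apply hx1
    rw [← mem_bot, ← h0]
    exact subset_closure rfl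
  have hlt1 : A₁ < A₂ := by
    refine lt_of_le_of_ne h12 fun he => ?_
    have hy2 : y ∈ zpowers x := by
      rw [zpowers_eq_closure]
      change y ∈ A₁
      rw [he]
      exact subset_closure (by simp)
    obtain ⟨k, hk⟩ := mem_zpowers_iff.1 hy2
    have e1 : x⁻¹ = x ^ (k * k) := by
      rw [← hgy]
      nth_rewrite 1 [← hk]
      rw [← conj_zpow, hgx, ← hk, ← zpow_mul]
    have e2 : x ^ (k * k + 1) = 1 := by
      rw [zpow_add_one, ← e1, inv_mul_cancel]
    have e3 : orderOf x = 3 := orderOf_eq_prime hx hx1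
    have e4 := orderOf_dvd_iff_zpow_eq_one.2 e2
    rw [e3] at e4
    have e5 : (k * k + 1) % 3 = 0 := Int.emod_eq_zero_of_dvd e4
    have e6 : k % 3 = 0 ∨ k % 3 = 1 ∨ k % 3 = 2 := by omega
    rcases e6 with e | e | e <;> simp [Int.add_emod, Int.mul_emod, e] at e5
  have hlt2 : A₂ < A₃ := by
    refine lt_of_le_of_ne h23 fun he => ?_
    have hw2 : w ∈ A₂ := by rw [he]; exact subset_closure (by simp)
    have h4 := hfix c {x, y} (by rintro z (rfl | rfl) <;> assumption) w hw2
    rw [hcw] at h4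
    exact hw1 (hsq w hw h4.symm)
  have e0 := E27.three_mul_card_le (hp.to_le (h12.trans h23)) hlt0
  have e1 := E27.three_mul_card_le (hp.to_le h23) hlt1
  have e2 := E27.three_mul_card_le hp hlt2
  rw [card_bot] at e0
  have hcomm : IsMulCommutative A₃ := ⟨⟨fun a b => Subtype.ext (hc _ a.2 _ b.2)⟩⟩
  have h5 := h A₃ hcomm (fun a ha => h3 _ ha)
  norm_num at h5
  omega

/-- two generators whose matrices have different zero patterns are different -/
theorem on_ne (x y : Gen) (i j : Fin 45) (h0 : ((dg 11 (gens (gi x)) (i.val + 45 * j.val) : ℕ) : ZMod 7) = 0)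
    (h1 : ((dg 11 (gens (gi y)) (i.val + 45 * j.val) : ℕ) : ZMod 7) ≠ 0) : on x ≠ on y := by
  intro h
  have h2 : pr (sl x) = pr (sl y) := by rw [← rho_on, ← rho_on, h]
  have h3 : (sl x)⁻¹ * sl y ∈ Subgroup.center SL45 := QuotientGroup.eq.1 h2
  have h4 : ∃ r : ZMod 7, ((sl y : SL45) : M45) = r • ((sl x : SL45) : M45) := by
    have e : ((sl y : SL45) : M45) = ((sl x : SL45) : M45) * (((sl x)⁻¹ * sl y : SL45) : M45) := by
      rw [← Matrix.SpecialLinearGroup.coe_mul, mul_inv_cancel_left]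
    rcases center_cases h3 with h5 | h5 | h5
    · exact ⟨1, by rw [e, h5]; simp⟩
    · exact ⟨_, by rw [e, h5, mul_smul_comm, mul_one]⟩
    · exact ⟨_, by rw [e, h5, mul_smul_comm, mul_one]⟩
  obtain ⟨r, hr⟩ := h4
  have h5 := congrFun (congrFun hr i) j
  rw [coe_sl, coe_sl, Matrix.smul_apply] at h5
  apply h1
  change (_ : ZMod 7) = r • ((dg 11 (gens (gi x)) (i.val + 45 * j.val) : ℕ) : ZMod 7) at h5
  rw [h0, smul_zero] at h5
  exact h5

theorem ab_ne : on .a ≠ on .b := on_ne .a .b 0 17 (by decide +kernel) (by decide +kernel)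

theorem de_ne : on .d ≠ on .e := on_ne .d .e 0 0 (by decide +kernel) (by decide +kernel)

section

variable (hs : IsSimpleGroup ON)

include hs

theorem inv_g : (on .g)⁻¹ = w [.g, .g, .g] := by
  have h := w_iw hs [.g]
  rw [w_one] at h
  rw [← h]
  rfl

theorem main (G : Type*) [Group G] [Finite G] (e : G ≃* ON) : ¬ Cfsg.PRankLE 3 2 G := by
  have hf : Finite ON := Finite.of_equiv G e.toEquiv
  have key : ¬ Cfsg.PRankLE 3 2 ON := by
    have hba : w [.b, .a] = (w [.a, .b])⁻¹ := by
      rw [← w_iw hs]; rfl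
    have hed : w [.e, .d] = (w [.d, .e])⁻¹ := by
      rw [← w_iw hs]; rfl
    have hgi : (w [.g])⁻¹ = w [.g, .g, .g] := by
      rw [← w_iw hs]; rfl
    have hdi : (w [.d])⁻¹ = w [.d] := by
      rw [← w_iw hs]; rfl
    refine not_rank_four (x := w [.a, .b]) (y := w [.g, .a, .b, .g, .g, .g]) (w := w [.d, .e]) (g := w [.g]) (c := w [.d])
      ?_ ?_ ?_ ?_ ?_ ?_ ?_ ?_ ?_ ?_ ?_ ?_ ?_
    · have := rel hs [.a, .b, .a, .b, .a, .b] (by decide +kernel)
      rw [pow_succ, pow_two, ← w_append, ← w_append]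
      exact this
    · rw [pow_succ, pow_two, ← w_append, ← w_append]
      exact rel hs _ (by decide +kernel)
    · rw [pow_succ, pow_two, ← w_append, ← w_append]
      exact rel hs _ (by decide +kernel)
    · intro h
      rw [w_cons, w_one] at h
      have h2 := w_iw hs [.b]
      have h3 : (on .b)⁻¹ = on .b := by rw [← w_one, ← h2]; rfl
      exact ab_ne ((mul_eq_one_iff_eq_inv.1 h).trans h3)
    · intro h
      rw [w_cons, w_one] at h
      have h2 := w_iw hs [.e]
      have h3 : (on .e)⁻¹ = on .e := by rw [← w_one, ← h2]; rfl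
      exact de_ne ((mul_eq_one_iff_eq_inv.1 h).trans h3)
    · rw [← w_append, ← w_append]
      exact eqw hs _ _ (by decide +kernel)
    · rw [← w_append, ← w_append]
      exact eqw hs _ _ (by decide +kernel)
    · rw [← w_append, ← w_append]
      exact eqw hs _ _ (by decide +kernel)
    · rw [hgi, ← w_append, ← w_append]
      exact rfl
    · rw [hgi, ← hba, ← w_append, ← w_append]
      exact eqw hs _ _ (by decide +kernel)
    · rw [hdi, ← w_append, ← w_append]
      exact eqw hs _ _ (by decide +kernel)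
    · rw [hdi, ← w_append, ← w_append]
      exact eqw hs _ _ (by decide +kernel)
    · rw [hdi, ← hed, ← w_append, ← w_append]
      exact eqw hs _ _ (by decide +kernel)
  exact fun h => key (E27.prank_of_injective e.symm.toMonoidHom e.symm.injective h)

end

/-- **Row ON of the table of S1731.** -/
theorem row_on (h : Cfsg.IsON ON) (G : Type*) [Group G] [Finite G] (hG : Cfsg.Spor.IsoON G) :
    ¬ Cfsg.PRankLE 3 2 G := by
  obtain ⟨e⟩ := hG
  exact main h.1 G e

end Cfsg.Agent.Omega.Quasithin.Row.ON
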