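import Cfsg.Agent.Omega.Quasithin.Row.OmegaRank

/-!
# Row `omegaMinus` of the table of S1731
-/

set_option autoImplicit false

namespace Cfsg.Agent.Omega.Quasithin.Row.OmegaMinus

open QuadraticMap Cfsg.Agent.LieClassical.OrthCore Cfsg.Agent.LieClassical.OrthTrans
  Cfsg.Agent.LieClassical.OrthFinite Cfsg.Agent.LieClassical.OrthForms

universe u

/-- `PΩ⁻_{2m+2}(q)`, `m ≥ 3`, has `p`-rank at least 3 (`p` the characteristic, any). -/
theorem not_prank (p : ℕ) [Fact p.Prime] (F : Type*) [Field F] [Finite F] [CharP F p] (m : ℕ)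
    (hm : 3 ≤ m) (a b : F)
    (hab : ∀ z₁ z₂ : F, z₁ ^ 2 + a * z₁ * z₂ + b * z₂ ^ 2 = 0 → z₁ = 0 ∧ z₂ = 0) :
    ¬ PRankLE p 2 (Cfsg.POmega F (Cfsg.quadFormMinus m F a b)) := by
  classical
  have hG : Good (minusForm m F a b) := good_of_finite (nondeg_minusForm m F a b hab) (by
    rw [Module.finrank_fintype_fun_eq_card, Fintype.card_sum, Fintype.card_sum, Fintype.card_fin]
    simp
    omega)
  have h := OmegaRank.not_prank_coord hG p (Sum.inl (Sum.inl ⟨0, by omega⟩))
    ![Sum.inl (Sum.inl ⟨1, by omega⟩), Sum.inl (Sum.inr ⟨1, by omega⟩),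
      Sum.inl (Sum.inl ⟨2, by omega⟩)] (by
      intro a b hab
      fin_cases a <;> fin_cases b <;> simp at hab ⊢) (by
      intro k
      fin_cases k <;> simp) (by
      rw [coe_minusForm, quadFormMinus_apply]
      simp) (by
      intro k
      rw [polar_minusForm]
      have h0 : ∀ k : Fin 2, (Pi.single (Sum.inl (Sum.inl ⟨0, by omega⟩)) (1 : F) :
        (Fin m ⊕ Fin m) ⊕ Fin 2 → F) (Sum.inr k) = 0 := fun _ => by simp
      rw [h0 0, h0 1]
      simp only [mul_zero, zero_mul, add_zero]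
      refine Finset.sum_eq_zero fun i _ => ?_
      fin_cases k
      · simp
      · by_cases h1 : i = ⟨1, by omega⟩
        · subst h1
          simp
        · simp [h1]
      · simp)
  rwa [coe_minusForm] at h

theorem row_omegaMinus : LieRow.{u} (fun p X _ => IsPOmegaMinusChar p X) := by
  rintro p hp hp2 G _ _ ⟨F, _, _, _, m, a, b, hm, hab, ⟨e⟩⟩ hr
  have : Fact p.Prime := ⟨hp⟩
  exact absurd (prankLE_congr e hr) (not_prank p F (m - 1) (by omega) a b hab)

end Cfsg.Agent.Omega.Quasithin.Row.OmegaMinus
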