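import Cfsg.Agent.Omega.Quasithin.Row.OmegaRank

/-!
# Row `omegaOdd` of the table of S1731
-/

set_option autoImplicit false

namespace Cfsg.Agent.Omega.Quasithin.Row.OmegaOdd

open QuadraticMap Cfsg.Agent.LieClassical.OrthCore Cfsg.Agent.LieClassical.OrthTrans
  Cfsg.Agent.LieClassical.OrthFinite Cfsg.Agent.LieClassical.OrthForms

universe u

/-- `PΩ_{2m+1}(q)`, `m ≥ 3`, `q` odd, has `p`-rank at least 3 (`p` the characteristic). -/
theorem not_prank (p : ℕ) [Fact p.Prime] (F : Type*) [Field F] [Finite F] [CharP F p] (m : ℕ)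
    (hm : 3 ≤ m) (h2 : (2 : F) ≠ 0) : ¬ PRankLE p 2 (Cfsg.POmega F (Cfsg.quadFormOdd m F)) := by
  classical
  have hG : Good (oddForm m F) := good_of_finite (nondeg_oddForm m F h2) (by
    rw [Module.finrank_fintype_fun_eq_card, Fintype.card_sum, Fintype.card_sum, Fintype.card_fin]
    simp
    omega)
  have h := OmegaRank.not_prank_coord hG p (Sum.inr (Sum.inl ⟨0, by omega⟩))
    ![Sum.inr (Sum.inl ⟨1, by omega⟩), Sum.inr (Sum.inr ⟨1, by omega⟩),
      Sum.inr (Sum.inl ⟨2, by omega⟩)] (by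
      intro a b hab
      fin_cases a <;> fin_cases b <;> simp at hab ⊢) (by
      intro k
      fin_cases k <;> simp) (by
      rw [coe_oddForm, quadFormOdd_apply]
      simp) (by
      intro k
      rw [polar_oddForm]
      have h0 : ∀ k : Fin 3, (Pi.single (Sum.inr (Sum.inl ⟨0, by omega⟩)) (1 : F) :
        Unit ⊕ (Fin m ⊕ Fin m) → F) (Sum.inl ()) = 0 := fun _ => by simp
      rw [h0 0, mul_zero, zero_mul, zero_add]
      refine Finset.sum_eq_zero fun i _ => ?_
      fin_cases k
      · simp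
      · by_cases h1 : i = ⟨1, by omega⟩
        · subst h1
          simp
        · simp [h1]
      · simp)
  rwa [coe_oddForm] at h

theorem row_omegaOdd : LieRow.{u} (fun p X _ => IsPOmegaOddChar p X) := by
  rintro p hp hp2 G _ _ ⟨F, _, _, hc, m, hm, -, ⟨e⟩⟩ hr
  have : Fact p.Prime := ⟨hp⟩
  refine absurd (prankLE_congr e hr) (not_prank p F m hm ?_)
  intro h
  have h1 : ((2 : ℕ) : F) = 0 := by exact_mod_cast h
  rw [CharP.cast_eq_zero_iff F p] at h1
  exact hp2 ((Nat.prime_dvd_prime_iff_eq hp Nat.prime_two).1 h1)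

end Cfsg.Agent.Omega.Quasithin.Row.OmegaOdd
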