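import Cfsg.Agent.Omega.Quasithin.Row.OmegaRank

/-!
# Row `omegaPlus` of the table of S1731
-/

set_option autoImplicit false

namespace Cfsg.Agent.Omega.Quasithin.Row.OmegaPlus

open QuadraticMap Cfsg.Agent.LieClassical.OrthCore Cfsg.Agent.LieClassical.OrthTrans
  Cfsg.Agent.LieClassical.OrthFinite Cfsg.Agent.LieClassical.OrthForms

universe u

/-- `PΩ⁺_{2m}(q)`, `m ≥ 4`, has `p`-rank at least 3 (`p` the characteristic, any). -/
theorem not_prank (p : ℕ) [Fact p.Prime] (F : Type*) [Field F] [Finite F] [CharP F p] (m : ℕ)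
    (hm : 4 ≤ m) : ¬ PRankLE p 2 (Cfsg.POmega F (Cfsg.quadFormPlus m F)) := by
  classical
  have hG : Good (plusForm m F) := good_of_finite (nondeg_plusForm m F) (by
    rw [Module.finrank_fintype_fun_eq_card, Fintype.card_sum, Fintype.card_fin]; omega)
  have h := OmegaRank.not_prank_coord hG p (Sum.inl ⟨0, by omega⟩)
    ![Sum.inl ⟨1, by omega⟩, Sum.inr ⟨1, by omega⟩, Sum.inl ⟨2, by omega⟩] (by
      intro a b hab
      fin_cases a <;> fin_cases b <;> simp at hab ⊢) (by
      intro k
      fin_cases k <;> simp) (by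
      rw [coe_plusForm, quadFormPlus_apply]
      exact Finset.sum_eq_zero fun i _ => by simp) (by
      intro k
      rw [polar_plusForm]
      refine Finset.sum_eq_zero fun i _ => ?_
      fin_cases k
      · simp
      · by_cases h1 : i = ⟨1, by omega⟩
        · subst h1
          simp
        · simp [h1]
      · simp)
  rwa [coe_plusForm] at h

theorem row_omegaPlus : LieRow.{u} (fun p X _ => IsPOmegaPlusChar p X) := by
  rintro p hp hp2 G _ _ ⟨F, _, _, _, m, hm, ⟨e⟩⟩ hr
  have : Fact p.Prime := ⟨hp⟩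
  exact absurd (prankLE_congr e hr) (not_prank p F m hm)

end Cfsg.Agent.Omega.Quasithin.Row.OmegaPlus
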