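import Cfsg.Agent.Omega.Quasithin.Row.Base

/-!
# The row PSL of the table of S1731

The matrices `1 + v ⊗ e_last` (`v` with last entry `0`) form an elementary abelian subgroup of order `q ^ (n - 1)`
of `PSL_n(q)`.
-/

set_option autoImplicit false

namespace Cfsg.Agent.Omega.Quasithin

open Cfsg Matrix

universe u

namespace PslRow

variable {F : Type*} [Field F] {m : ℕ}

/-- the vector `v` with a last entry `0` -/
def ext (v : Fin m → F) : Fin (m + 1) → F := Fin.snoc (α := fun _ => F) v 0

theorem ext_last (v : Fin m → F) : ext v (Fin.last m) = 0 := by simp [ext]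

theorem ext_castSucc (v : Fin m → F) (i : Fin m) : ext v i.castSucc = v i := by simp [ext]

theorem ext_add (v w : Fin m → F) : ext (v + w) = ext v + ext w := by
  funext i
  refine Fin.lastCases ?_ (fun j => ?_) i
  · simp [ext_last]
  · simp [ext_castSucc]

theorem ext_zero : ext (0 : Fin m → F) = 0 := by
  funext i
  refine Fin.lastCases ?_ (fun j => ?_) i
  · simp [ext_last]
  · simp [ext_castSucc]

/-- the transvection matrix with last column `v` -/
def mat (v : Fin m → F) : Matrix (Fin (m + 1)) (Fin (m + 1)) F :=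
  1 + vecMulVec (ext v) (Pi.single (Fin.last m) 1)

theorem mat_zero : mat (0 : Fin m → F) = 1 := by
  rw [mat, ext_zero, zero_vecMulVec, add_zero]

theorem mat_add (v w : Fin m → F) : mat (v + w) = mat v * mat w := by
  rw [mat, mat, mat, ext_add, add_vecMulVec, add_mul, mul_add, mul_add, one_mul, mul_one, one_mul,
    vecMulVec_mul_vecMulVec]
  have h : (Pi.single (Fin.last m) 1 : Fin (m + 1) → F) ⬝ᵥ ext w = 0 := by simp [ext_last]
  rw [h, zero_smul, vecMulVec_zero, add_zero]
  abel

theorem det_mat (v : Fin m → F) : (mat v).det = 1 := by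
  rw [mat, vecMulVec_eq Unit, det_one_add_replicateCol_mul_replicateRow]
  simp [ext_last]

/-- the homomorphism -/
def hom (F : Type*) [Field F] (m : ℕ) : Multiplicative (Fin m → F) →* SpecialLinearGroup (Fin (m + 1)) F where
  toFun v := ⟨mat v.toAdd, det_mat _⟩
  map_one' := Subtype.ext mat_zero
  map_mul' v w := Subtype.ext (mat_add v.toAdd w.toAdd)

theorem hom_center (v : Fin m → F) (h : hom F m (Multiplicative.ofAdd v) ∈ Subgroup.center _) : v = 0 := by
  obtain ⟨r, -, hr⟩ := Matrix.SpecialLinearGroup.mem_center_iff.1 h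
  funext i
  have h1 := congrFun (congrFun hr i.castSucc) (Fin.last m)
  have h2 : (hom F m (Multiplicative.ofAdd v)).1 i.castSucc (Fin.last m) = v i := by
    change (mat v) i.castSucc (Fin.last m) = v i
    simp [mat, vecMulVec_apply, ext_castSucc, (Fin.castSucc_lt_last i).ne]
  rw [h2] at h1
  rw [← h1]
  simp [(Fin.castSucc_lt_last i).ne]

theorem not_prankLE [Fintype F] {p : ℕ} [CharP F p] (hc : p ^ 2 < Fintype.card F ^ m) :
    ¬ PRankLE p 2 (ProjectiveSpecialLinearGroup (Fin (m + 1)) F) := by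
  refine not_prankLE_of_center (V := Fin m → F) (fun v => ?_) (hom F m) hom_center ?_
  · funext i
    simp
  · rw [Nat.card_eq_fintype_card, Fintype.card_fun, Fintype.card_fin]
    exact hc

end PslRow

theorem row_psl : LieRow.{u} (fun p X _ => IsPSLChar p X) := by
  rintro p hp hp2 G _ _ ⟨F, _, _, _, n, hn, -, ⟨e⟩⟩ hr
  refine ⟨F, inferInstance, inferInstance, ?_⟩
  have := Fact.mk hp
  obtain ⟨m, rfl⟩ : ∃ m, n = m + 1 := ⟨n - 1, by omega⟩
  obtain ⟨k, -, hk⟩ := FiniteField.card F p
  have h1 : ¬ p ^ 2 < Fintype.card F ^ m := fun h => PslRow.not_prankLE h (prankLE_congr e hr)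
  rw [hk, ← pow_mul, Nat.pow_lt_pow_iff_right hp.one_lt, not_lt] at h1
  have h2 : 1 ≤ (k : ℕ) := k.2
  obtain rfl | rfl : m = 1 ∨ m = 2 := by
    have : 1 * m ≤ k * m := Nat.mul_le_mul_right _ h2
    omega
  · left
    refine ⟨?_, ⟨e⟩⟩
    obtain h | h : (k : ℕ) = 1 ∨ (k : ℕ) = 2 := by omega
    · left; rw [hk, h, pow_one]
    · right; rw [hk, h]
  · right; left
    refine ⟨?_, ⟨e⟩⟩
    rw [hk, show (k : ℕ) = 1 by omega, pow_one]

end Cfsg.Agent.Omega.Quasithin
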