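import Cfsg.Agent.Omega.Quasithin.Row.Base

/-!
# The row PSp of the table of S1731

The block matrices `[1 S; 0 1]`, `S` symmetric, form an elementary abelian subgroup of order `≥ q ^ 3` of
`PSp_{2m}(q)`, `m ≥ 2`.
-/

set_option autoImplicit false

namespace Cfsg.Agent.Omega.Quasithin

open Cfsg Matrix

universe u

namespace PspRow

variable {F : Type*} [Field F] {m : ℕ}

/-- a three-parameter family of symmetric matrices -/
def sym (a b : Fin m) (v : Fin 3 → F) : Matrix (Fin m) (Fin m) F :=
  single a a (v 0) + single a b (v 1) + single b a (v 1) + single b b (v 2)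

theorem sym_transpose (a b : Fin m) (v : Fin 3 → F) : (sym a b v)ᵀ = sym a b v := by
  simp only [sym, transpose_add, transpose_single]
  abel

theorem sym_zero (a b : Fin m) : sym a b (0 : Fin 3 → F) = 0 := by
  simp [sym]

theorem sym_add (a b : Fin m) (v w : Fin 3 → F) : sym a b (v + w) = sym a b v + sym a b w := by
  simp only [sym, Pi.add_apply, single_add]
  abel

theorem sym_eq_zero {a b : Fin m} (hab : a ≠ b) {v : Fin 3 → F} (h : sym a b v = 0) : v = 0 := by
  have h0 := congrFun (congrFun h a) a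
  have h1 := congrFun (congrFun h a) b
  have h2 := congrFun (congrFun h b) b
  simp [sym, hab, hab.symm] at h0 h1 h2
  funext i
  fin_cases i
  · exact h0
  · exact h1
  · exact h2

/-- the block matrix -/
def mat (S : Matrix (Fin m) (Fin m) F) : Matrix (Fin m ⊕ Fin m) (Fin m ⊕ Fin m) F := fromBlocks 1 S 0 1

theorem mat_mem {S : Matrix (Fin m) (Fin m) F} (hS : Sᵀ = S) : mat S ∈ symplecticGroup (Fin m) F := by
  rw [SymplecticGroup.mem_iff, mat, J, fromBlocks_transpose, fromBlocks_multiply, fromBlocks_multiply, hS]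
  simp

theorem mat_mul (S T : Matrix (Fin m) (Fin m) F) : mat S * mat T = mat (S + T) := by
  rw [mat, mat, mat, fromBlocks_multiply]
  simp [add_comm]

/-- the homomorphism -/
def hom (F : Type*) [Field F] (a b : Fin m) : Multiplicative (Fin 3 → F) →* symplecticGroup (Fin m) F where
  toFun v := ⟨mat (sym a b v.toAdd), mat_mem (sym_transpose a b _)⟩
  map_one' := by
    apply Subtype.ext
    change mat (sym a b (0 : Fin 3 → F)) = 1
    rw [sym_zero, mat, fromBlocks_one]
  map_mul' v w := by
    apply Subtype.ext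
    change mat (sym a b (v.toAdd + w.toAdd)) = mat (sym a b v.toAdd) * mat (sym a b w.toAdd)
    rw [mat_mul, sym_add]

theorem hom_center {a b : Fin m} (hab : a ≠ b) (v : Fin 3 → F)
    (h : hom F a b (Multiplicative.ofAdd v) ∈ Subgroup.center (symplecticGroup (Fin m) F)) : v = 0 := by
  have h1 := congrArg Subtype.val (Subgroup.mem_center_iff.1 h (SymplecticGroup.symJ (Fin m) F))
  have h2 : J (Fin m) F * mat (sym a b v) = mat (sym a b v) * J (Fin m) F := h1
  rw [mat, J, fromBlocks_multiply, fromBlocks_multiply] at h2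
  have h3 := (fromBlocks_inj.1 h2).2.2.2
  exact sym_eq_zero hab (by simpa using h3)

theorem not_prankLE [Fintype F] {p : ℕ} [CharP F p] (hp : p.Prime) (hm : 2 ≤ m) :
    ¬ PRankLE p 2 (PSp m F) := by
  have hab : (⟨0, by omega⟩ : Fin m) ≠ ⟨1, by omega⟩ := by simp
  refine not_prankLE_of_center (V := Fin 3 → F) (fun v => ?_) (hom F _ _) (hom_center hab) ?_
  · funext i
    simp
  · have := Fact.mk hp
    obtain ⟨k, -, hk⟩ := FiniteField.card F p
    rw [Nat.card_eq_fintype_card, Fintype.card_fun, Fintype.card_fin, hk, ← pow_mul]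
    have : 1 ≤ (k : ℕ) := k.2
    exact Nat.pow_lt_pow_right hp.one_lt (by omega)

end PspRow

theorem row_psp : LieRow.{u} (fun p X _ => IsPSpChar p X) := by
  rintro p hp hp2 G _ _ ⟨F, _, _, _, m, hm, -, ⟨e⟩⟩ hr
  exact absurd (prankLE_congr e hr) (PspRow.not_prankLE hp hm)

end Cfsg.Agent.Omega.Quasithin
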