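import Cfsg.Agent.Omega.Quasithin.Row.Base
import Cfsg.Agent.LieClassical.HermGen

/-!
# The row PSU of the table of S1731

For a hyperbolic pair `p, p'` in the first two coordinates, the Siegel transformations `siegel p w μ` with `w` in the
span over the fixed field `F_q` of the other basis vectors, and `μ + h(w,w)/2` of trace zero, form an elementary
abelian subgroup of order `q ^ (n - 1)` of `PSU_n(q)`.
-/

set_option autoImplicit false

namespace Cfsg.Agent.Omega.Quasithin

open Cfsg Cfsg.Agent.LieClassical.HermBasic Cfsg.Agent.LieClassical.HermSiegel Cfsg.Agent.LieClassical.HermGen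

universe u

namespace PsuRow

variable {F : Type*} [Field F] [Fintype F] {q m : ℕ}

/-- the additive group of the fixed field -/
def fix (hF : Fintype.card F = q ^ 2) : AddSubgroup F where
  carrier := {x | x ^ q = x}
  add_mem' {x y} hx hy := by
    change (x + y) ^ q = x + y
    rw [add_pow_q hF, show x ^ q = x from hx, show y ^ q = y from hy]
  zero_mem' := zero_pow_q hF
  neg_mem' {x} hx := by
    change (-x) ^ q = -x
    rw [neg_pow_q hF, show x ^ q = x from hx]

theorem card_fix (hF : Fintype.card F = q ^ 2) : Nat.card (fix hF) = q := card_fixed hF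

theorem fix_pow (hF : Fintype.card F = q ^ 2) (t : fix hF) : (t : F) ^ q = t := t.2

/-- real vectors on the coordinates from the third on -/
def ext (hF : Fintype.card F = q ^ 2) (w : Fin m → fix hF) : Fin (m + 2) → F :=
  Fin.cons (α := fun _ => F) 0 (Fin.cons (α := fun _ => F) 0 fun i => (w i : F))

variable (hF : Fintype.card F = q ^ 2)

theorem ext_zero' (w : Fin m → fix hF) : ext hF w 0 = 0 := rfl
theorem ext_one' (w : Fin m → fix hF) : ext hF w 1 = 0 := rfl
theorem ext_succ (w : Fin m → fix hF) (i : Fin m) : ext hF w i.succ.succ = w i := rfl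

theorem ext_cases {P : Fin (m + 2) → Prop} (h0 : P 0) (h1 : P 1) (h2 : ∀ i : Fin m, P i.succ.succ) (i) : P i := by
  refine Fin.cases h0 (fun j => ?_) i
  exact Fin.cases (motive := fun j => P j.succ) h1 h2 j

theorem ext_pow (w : Fin m → fix hF) (i : Fin (m + 2)) : (ext hF w i) ^ q = ext hF w i := by
  refine ext_cases (P := fun i => (ext hF w i) ^ q = ext hF w i) (zero_pow_q hF) (zero_pow_q hF) (fun j => ?_) i
  exact fix_pow hF (w j)

theorem ext_add (w w' : Fin m → fix hF) : ext hF (w + w') = ext hF w + ext hF w' := by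
  funext i
  refine ext_cases (P := fun i => ext hF (w + w') i = (ext hF w + ext hF w') i) ?_ ?_ (fun j => ?_) i
  · simp [ext_zero']
  · simp [ext_one']
  · simp [ext_succ]

theorem ext_zero : ext hF (0 : Fin m → fix hF) = 0 := by
  funext i
  refine ext_cases (P := fun i => ext hF (0 : Fin m → fix hF) i = 0) rfl rfl (fun j => ?_) i
  simp [ext_succ]

theorem ext_eq_zero {w : Fin m → fix hF} (h : ext hF w = 0) : w = 0 := by
  funext i
  have := congrFun h i.succ.succ
  rw [ext_succ] at this
  exact Subtype.ext this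

/-- the value of the form on two real vectors -/
theorem herm_symm (w w' : Fin m → fix hF) :
    hermForm (m + 2) F q (ext hF w) (ext hF w') = hermForm (m + 2) F q (ext hF w') (ext hF w) := by
  rw [herm_def, herm_def]
  refine Finset.sum_congr rfl fun i _ => ?_
  rw [ext_pow, ext_pow, mul_comm]

theorem herm_real (w w' : Fin m → fix hF) :
    (hermForm (m + 2) F q (ext hF w) (ext hF w')) ^ q = hermForm (m + 2) F q (ext hF w) (ext hF w') := by
  rw [← herm_swap hF, herm_symm]

/-- The data of a hyperbolic pair in the first plane and of a nonzero scalar of trace zero. -/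
structure Dat (hF : Fintype.card F = q ^ 2) (m : ℕ) where
  p : Fin (m + 2) → F
  p' : Fin (m + 2) → F
  κ : F
  hp : hermForm (m + 2) F q p p = 0
  hp' : hermForm (m + 2) F q p' p' = 0
  hpp : hermForm (m + 2) F q p p' = 1
  orth : ∀ w : Fin m → fix hF, hermForm (m + 2) F q (ext hF w) p = 0
  orth' : ∀ w : Fin m → fix hF, hermForm (m + 2) F q (ext hF w) p' = 0
  κ_ne : κ ≠ 0
  κ_tr : κ + κ ^ q = 0

theorem exists_dat (m : ℕ) : Nonempty (Dat hF m) := by
  obtain ⟨p, p', a, b, ha, hp, hp', h1, h2, h3⟩ :=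
    exists_hyp_pair (n := m + 2) hF (i := 0) (j := 1) (by simp)
  obtain ⟨κ, hκ, hκ'⟩ := exists_trace_zero_ne hF
  have h4 : ∀ w : Fin m → fix hF, hermForm (m + 2) F q (ext hF w) p = 0 := by
    intro w
    rw [hp, herm_add_right hF, herm_smul_right, herm_single_right hF, herm_single_right hF, ext_zero', ext_one']
    ring
  refine ⟨⟨p, p', κ, h1, h2, h3, h4, fun w => ?_, hκ, hκ'⟩⟩
  rw [hp', herm_add_right hF, herm_smul_right, h4, herm_single_right hF, ext_zero']
  ring

variable {hF}

/-- the scalar `μ` -/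
def mu (D : Dat hF m) (v : fix hF × (Fin m → fix hF)) : F :=
  v.1 * D.κ - hermForm (m + 2) F q (ext hF v.2) (ext hF v.2) / 2

theorem two_pow (hF : Fintype.card F = q ^ 2) : (2 : F) ^ q = 2 := by
  rw [← one_add_one_eq_two, add_pow_q hF, one_pow]

theorem isSiegel (h2 : (2 : F) ≠ 0) (D : Dat hF m) (v : fix hF × (Fin m → fix hF)) :
    IsSiegel q D.p (ext hF v.2) (mu D v) := by
  refine ⟨D.hp, D.orth v.2, ?_⟩
  rw [mu, sub_pow_q hF, mul_pow, div_pow, two_pow hF, herm_real, fix_pow]
  have := D.κ_tr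
  field_simp
  linear_combination 2 * (v.1 : F) * this

/-- the homomorphism -/
def hom (h2 : (2 : F) ≠ 0) (D : Dat hF m) : Multiplicative (fix hF × (Fin m → fix hF)) →* SU (m + 2) F q where
  toFun v := siegel hF D.p (ext hF v.toAdd.2) (mu D v.toAdd) (isSiegel h2 D v.toAdd)
  map_one' := by
    have h0 : IsSiegel q D.p 0 (0 : F) := IsSiegel.zero hF D.hp
    have h1 : mu D (0 : fix hF × (Fin m → fix hF)) = 0 := by
      simp [mu, ext_zero, herm_zero_left]
    exact (siegel_congr hF _ h0 rfl (ext_zero hF) h1).trans (siegel_zero hF h0)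
  map_mul' v w := by
    rw [siegel_mul]
    refine siegel_congr hF _ _ rfl (ext_add hF _ _) ?_
    change mu D (v.toAdd + w.toAdd) = mu D v.toAdd + mu D w.toAdd -
      hermForm (m + 2) F q (ext hF w.toAdd.2) (ext hF v.toAdd.2)
    simp only [mu, Prod.fst_add, Prod.snd_add, AddSubgroup.coe_add, ext_add, herm_add_left, herm_add_right hF]
    rw [herm_symm hF w.toAdd.2 v.toAdd.2]
    field_simp
    ring

theorem hom_center (h2 : (2 : F) ≠ 0) (D : Dat hF m) (v : fix hF × (Fin m → fix hF))
    (h : hom h2 D (Multiplicative.ofAdd v) ∈ Subgroup.center (SU (m + 2) F q)) : v = 0 := by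
  have hs : IsSiegel q D.p (ext hF v.2) (mu D v) := isSiegel h2 D v
  have h' : siegel hF D.p (ext hF v.2) (mu D v) hs ∈ Subgroup.center (SU (m + 2) F q) := h
  have hp'p : hermForm (m + 2) F q D.p' D.p = 1 := by rw [herm_swap hF, D.hpp, one_pow]
  have hk : IsSiegel q D.p' 0 D.κ := ⟨D.hp', herm_zero_left _, by rw [herm_zero_left, add_zero]; exact D.κ_tr⟩
  -- act by the element of the opposite root group
  have hg := Subgroup.mem_center_iff.1 h' (siegel hF D.p' 0 D.κ hk)
  have e1 : ∀ x, act (siegel hF D.p' 0 D.κ hk) (act (siegel hF D.p (ext hF v.2) (mu D v) hs) x) =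
      act (siegel hF D.p (ext hF v.2) (mu D v) hs) (act (siegel hF D.p' 0 D.κ hk) x) := by
    intro x
    rw [← act_mul, ← act_mul, hg]
  have hpw : hermForm (m + 2) F q D.p (ext hF v.2) = 0 := herm_eq_zero_swap hF (D.orth v.2)
  have hpw' : hermForm (m + 2) F q D.p' (ext hF v.2) = 0 := herm_eq_zero_swap hF (D.orth' v.2)
  -- on `p'`
  have e2 := e1 D.p'
  simp only [act_siegel, herm_add_left, herm_smul_left, D.hp', D.hpp, hp'p, hpw', D.orth', herm_zero_right hF,
    smul_zero, mul_zero, mul_one, add_zero, sub_zero, zero_add, zero_smul, one_smul] at e2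
  have e3 : mu D v = 0 := by
    have h5 : (D.κ * mu D v) • D.p' = 0 := by
      have := congrArg (fun x => x - (D.p' + ext hF v.2 + mu D v • D.p)) e2
      simpa using this
    have h6 : D.p' ≠ 0 := by
      intro h0
      have := D.hpp
      rw [h0, herm_zero_right hF] at this
      exact zero_ne_one this
    rcases smul_eq_zero.1 h5 with h7 | h7
    · exact (mul_eq_zero.1 h7).resolve_left D.κ_ne
    · exact absurd h7 h6
  -- on `p`
  have e4 := e1 D.p
  simp only [act_siegel, herm_add_left, herm_smul_left, D.hp, D.hpp, hp'p, hpw, hpw', herm_zero_right hF,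
    smul_zero, mul_zero, mul_one, add_zero, sub_zero, zero_add, zero_smul, e3, zero_mul] at e4
  have e5 : ext hF v.2 = 0 := by
    have h5 : D.κ • ext hF v.2 = 0 := by
      have := congrArg (fun x => x - (D.p + D.κ • D.p')) e4
      simpa using this.symm
    exact (smul_eq_zero.1 h5).resolve_left D.κ_ne
  have e6 : v.2 = 0 := ext_eq_zero hF e5
  have e7 : v.1 = 0 := by
    have : mu D v = v.1 * D.κ := by rw [mu, e5, herm_zero_left, zero_div, sub_zero]
    rw [this] at e3
    exact Subtype.ext ((mul_eq_zero.1 e3).resolve_right D.κ_ne)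
  exact Prod.ext e7 e6

theorem not_prankLE (hF : Fintype.card F = q ^ 2) {p : ℕ} [CharP F p] (h2 : (2 : F) ≠ 0)
    (hc : p ^ 2 < q ^ (m + 1)) : ¬ PRankLE p 2 (PSU (m + 2) F q) := by
  obtain ⟨D⟩ := exists_dat hF m
  refine not_prankLE_of_center (V := fix hF × (Fin m → fix hF)) (fun v => ?_) (hom h2 D) (hom_center h2 D) ?_
  · have h : ∀ x : fix hF, p • x = 0 := fun x => Subtype.ext (by simp)
    refine Prod.ext (h _) (funext fun i => h _)
  · rw [Nat.card_prod, Nat.card_fun, card_fix, Nat.card_eq_fintype_card, Fintype.card_fin, ← pow_succ']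
    exact hc

end PsuRow

theorem row_psu : LieRow.{u} (fun p X _ => IsPSUChar p X) := by
  rintro p hp hp2 G _ _ ⟨F, _, _, hFp, n, q, hF, hn, -, ⟨e⟩⟩ hr
  refine ⟨F, inferInstance, inferInstance, ?_⟩
  have := Fact.mk hp
  obtain ⟨m, rfl⟩ : ∃ m, n = m + 2 := ⟨n - 2, by omega⟩
  have h2 : (2 : F) ≠ 0 := by
    have h := CharP.cast_eq_zero_iff F p 2
    intro h0
    exact hp2 ((Nat.prime_dvd_prime_iff_eq hp Nat.prime_two).1 (h.1 (by exact_mod_cast h0)))
  obtain ⟨p', k, hp', hchar, hk, hk0⟩ := exists_prime_pow hF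
  obtain rfl : p' = p := CharP.eq F hchar hFp
  have h1 : ¬ p' ^ 2 < q ^ (m + 1) := fun h => PsuRow.not_prankLE hF h2 h (prankLE_congr e hr)
  rw [hk, ← pow_mul, Nat.pow_lt_pow_iff_right hp.one_lt, not_lt] at h1
  have h3 : 1 * (m + 1) ≤ k * (m + 1) := Nat.mul_le_mul_right _ hk0
  obtain rfl : m = 1 := by omega
  obtain rfl : k = 1 := by omega
  rw [pow_one] at hk
  subst hk
  exact Or.inr (Or.inr ⟨hF, ⟨e⟩⟩)

end Cfsg.Agent.Omega.Quasithin
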