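import Cfsg.Agent.Omega.Quasithin.Row.EvenOf
import Cfsg.Agent.Omega.Quasithin.Row.EvenE
import Cfsg.Agent.KFacts.Ru.InvC
import Cfsg.Agent.KFacts.Ru.Core

/-!
# The Rudvalis group is of even characteristic (S1731, table)

`E` = union of the five members of `Σ(z)` (order 32): the centraliser of `E/⟨z⟩` in `C(z)` is a 2-group.
-/

set_option autoImplicit false

namespace Cfsg.Agent.Omega.Quasithin.Ru

open Cfsg Subgroup Cfsg.Agent.RuB Cfsg.Agent.RuB.Core Cfsg.Agent.RuB.NormZ Cfsg.Agent.KFacts.Ru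
  Cfsg.Agent.Ru127.Basic Cfsg.Agent.Ru127.Count Cfsg.Agent.Ru127.Sg

variable {G : Type*} [Group G]

theorem even_of_core [Finite G] (C : Core G) : IsOfEvenCharacteristic G := by
  obtain ⟨K, hν, hμ, L, hcz⟩ := exists_localData C
  have hz1 : C.z 1 ≠ 1 := fun h => one_ne_zero (C.z_eq_one h)
  have h5 := InvC.card_sig C _ Local.Zs_mem_ZZ _ (z_mem_Zs 1) hz1
  let E : Subgroup G :=
    { carrier := {x | ∃ Y ∈ Local.ZZ C, C.z 1 ∈ Y ∧ x ∈ Y}
      one_mem' := ⟨_, Local.Zs_mem_ZZ, z_mem_Zs 1, one_mem _⟩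
      mul_mem' := by
        rintro u v ⟨b, hb, hzb, hu⟩ ⟨c, hc, hzc, hv⟩
        exact InvA.exists_mul L hz1 h5 hb hzb hc hzc hu hv
      inv_mem' := by
        rintro u ⟨b, hb, hzb, hu⟩
        exact ⟨b, hb, hzb, inv_mem hu⟩ }
  have hE : ∀ x, x ∈ E ↔ ∃ Y ∈ Local.ZZ C, C.z 1 ∈ Y ∧ x ∈ Y := fun _ => Iff.rfl
  obtain ⟨Q, hQ2, hQn, hQc⟩ := EvenE.exists_Q (z := C.z 1) (E := E) (A := C.QQ)
    ((hE _).2 ⟨_, Local.Zs_mem_ZZ, z_mem_Zs 1, z_mem_Zs 1⟩)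
    (by
      intro x hx
      obtain ⟨b, hb, -, hx⟩ := (hE x).1 hx
      exact sq_mem L hb hx)
    (by
      intro g hg x hx
      obtain ⟨b, hb, hzb, hx⟩ := (hE x).1 hx
      refine (hE _).2 ⟨Ru127.Form.cj g b, L.Z_conj b hb g, mem_cj_of_commute hg hzb, ?_⟩
      rw [Ru127.Form.mem_cj]
      have e : g⁻¹ * (g * x * g⁻¹) * g = x := by group
      rwa [e])
    (Cfsg.Agent.RuB.QSyl.pgroup_QQ C)
    (by
      intro g hg
      exact hcz g fun b => hg _ ((hE _).2 ⟨_, Local.Zs_mem_ZZ, z_mem_Zs 1, z_mem_Zs b⟩))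
  obtain ⟨P, -, -, -, -, hP⟩ := InvC.exists_sylow C
  exact EvenOf.even_of_center hQ2 hQn hQc ⟨P, hP⟩

/-- **Row `Ru`.** -/
theorem row_ru (G : Type*) [Group G] [Finite G] (h : Spor.IsoRu G) : IsOfEvenCharacteristic G := by
  obtain ⟨C, -⟩ := exists_core h
  exact even_of_core C

end Cfsg.Agent.Omega.Quasithin.Ru
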