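import Cfsg.Agent.SporRec.SuzPerm
import Cfsg.Agent.S1694
import Cfsg.Agent.Omega.Quasithin.Row.E27Ne

/-!
# Table of S1731: the 3-rank of `Suz` is at least 3

The words `de`, `bf`, `abagbab` in the generators of the presented group generate an elementary abelian group of order 27
(checked on the 1782 points).
-/

set_option autoImplicit false
set_option maxRecDepth 100000
set_option linter.constructorNameAsVariable false

namespace Cfsg.Agent.Omega.Quasithin.Row.Suz

open Cfsg Cfsg.Spor Cfsg.Agent.SporRec.SuzPerm

universe u

/-- the generators of the presented group -/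
def x (g : Suz.Gen) : Suz :=
  PresentedGroup.mk (coxRelators Suz.edges ∪ {r | r ∈ Suz.extra}) (FreeGroup.of g)

theorem φ_inj : Function.Injective φ := by
  have hs : IsSimpleGroup Suz := S1694.result.1
  rw [← MonoidHom.ker_eq_bot_iff]
  rcases hs.eq_bot_or_eq_top_of_normal φ.ker inferInstance with h | h
  · exact h
  · exfalso
    have h1 : x .a ∈ φ.ker := by rw [h]; trivial
    rw [MonoidHom.mem_ker, show φ (x .a) = gen .a from φ_of _] at h1
    have h2 : ((gen .a (2 : Fin 1782) : Fin 1782) : ℕ) = 2 := by rw [h1]; rfl
    rw [gen_val] at h2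
    have h3 : app (tab .a) 2 = 3 := by decide +kernel
    have h4 : ((2 : Fin 1782) : ℕ) = 2 := rfl
    rw [h4, h3] at h2
    omega

/-- the three words -/
def wx : List Suz.Gen := [.d, .e]
/-- the three words -/
def wy : List Suz.Gen := [.b, .f]
/-- the three words -/
def ww : List Suz.Gen := [.a, .b, .a, .g, .b, .a, .b]

/-- inverse word -/
theorem inv_prod (w : List Suz.Gen) : ((w.map gen).prod)⁻¹ = (w.reverse.map gen).prod := by
  have h1 : (fun p : Equiv.Perm (Fin 1782) => p⁻¹) ∘ gen = gen := funext fun y => gen_inv y
  rw [List.prod_inv_reverse, List.map_map, ← List.map_reverse]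
  exact congrArg (fun f => (List.map f w.reverse).prod) h1

theorem cube {w : List Suz.Gen} (h : chk (w ++ (w ++ w)) = true) : ((w.map gen).prod) ^ 3 = 1 := by
  have := prod_eq_one h
  rw [List.map_append, List.map_append, List.prod_append, List.prod_append] at this
  rw [pow_succ, pow_two, mul_assoc]
  exact this

theorem comm {v w : List Suz.Gen} (h : chk (v ++ (w ++ (v.reverse ++ w.reverse))) = true) :
    (v.map gen).prod * (w.map gen).prod = (w.map gen).prod * (v.map gen).prod := by
  have := prod_eq_one h
  rw [List.map_append, List.map_append, List.map_append, List.prod_append, List.prod_append, List.prod_append,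
    ← inv_prod, ← inv_prod] at this
  have h1 := mul_eq_one_iff_eq_inv.1 ((mul_assoc _ _ _).trans this)
  rw [mul_inv_rev, inv_inv, inv_inv] at h1
  exact h1

theorem mem_range (w : List Suz.Gen) : (w.map gen).prod ∈ φ.range := by
  refine Subgroup.list_prod_mem _ fun p hp => ?_
  obtain ⟨g, -, rfl⟩ := List.mem_map.1 hp
  exact ⟨x g, φ_of g⟩

/-- words `v^i w^j` -/
def pw (v w : List Suz.Gen) (i j : ℕ) : List Suz.Gen :=
  (List.replicate i v).flatten ++ (List.replicate j w).flatten

theorem pow_word (v : List Suz.Gen) (i : ℕ) : (((List.replicate i v).flatten).map gen).prod = ((v.map gen).prod) ^ i := by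
  induction i with
  | zero => rfl
  | succ i ih =>
    rw [List.replicate_succ, List.flatten_cons, List.map_append, List.prod_append, ih, pow_succ']

theorem pw_prod (v w : List Suz.Gen) (i j : ℕ) :
    ((pw v w i j).map gen).prod = ((v.map gen).prod) ^ i * ((w.map gen).prod) ^ j := by
  rw [pw, List.map_append, List.prod_append, pow_word, pow_word]

theorem ne_of_tr {v w : List Suz.Gen} {n : ℕ} (hn : n < 1782) (h : Nat.beq (tr v n) (tr w n) = false) :
    (v.map gen).prod ≠ (w.map gen).prod := by
  intro he
  have h1 := prod_val v ⟨n, hn⟩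
  rw [he, prod_val] at h1
  rw [h1] at h
  simp at h

theorem row_suz (G : Type u) [Group G] [Finite G] (h : Cfsg.Spor.IsoSuz G) : ¬ Cfsg.PRankLE 3 2 G := by
  obtain ⟨e⟩ := h
  refine E27Ne.not_rank_of_map (φ.comp e.toMonoidHom) (φ_inj.comp e.injective)
    (x := (wx.map gen).prod) (y := (wy.map gen).prod) (w := (ww.map gen).prod) ?_ ?_ ?_ ?_ ?_ ?_ ?_ ?_ ?_ ?_ ?_ ?_
  · exact cube (by decide +kernel)
  · exact cube (by decide +kernel)
  · exact cube (by decide +kernel)
  · exact comm (by decide +kernel)
  · exact comm (by decide +kernel)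
  · exact comm (by decide +kernel)
  · exact ne_of_tr (w := []) (n := 7) (by norm_num) (by decide +kernel)
  · intro i hi
    rw [← mul_one (((wx.map gen).prod) ^ i), ← pow_zero ((wy.map gen).prod), ← pw_prod]
    refine ne_of_tr (n := 7) (by norm_num) ?_
    interval_cases i <;> decide +kernel
  · intro i hi j hj
    rw [← pw_prod]
    refine ne_of_tr (n := 7) (by norm_num) ?_
    interval_cases i <;> interval_cases j <;> decide +kernel
  all_goals
    rw [MonoidHom.range_comp, MonoidHom.range_eq_top.2 e.surjective]
    rw [← MonoidHom.range_eq_map]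
    exact mem_range _

end Cfsg.Agent.Omega.Quasithin.Row.Suz
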