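import Cfsg.Agent.Omega.Quasithin.Row.E27
import Cfsg.Agent.Th.Base
import Cfsg.Agent.Th.Hom248
import Cfsg.Prelude.Def_Sporadic

/-!
# Table of S1731: the 3-rank of the Thompson group is at least 3 (helper416)

`t`, `ab`, `de` commute and have order 3; `a` centralises `t` and inverts `ab`; `d` centralises `t` and `ab` and
inverts `de`.
-/

set_option autoImplicit false

namespace Cfsg.Agent.Omega.Quasithin.Row.Th

open Cfsg.Agent.Th.Base hiding gen
open Cfsg.Agent.Th.Gen248
open Cfsg.Agent.Th.Hom248 hiding gen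

theorem comm_of_sq {G : Type*} [Group G] {x y : G} (hx : x ^ 2 = 1) (hy : y ^ 2 = 1) (h : (x * y) ^ 2 = 1) :
    x * y = y * x := by
  rw [pow_two] at hx hy h
  have h1 : x * y = (x * y)⁻¹ := eq_inv_of_mul_eq_one_left h
  rw [mul_inv_rev, inv_eq_of_mul_eq_one_left hx, inv_eq_of_mul_eq_one_left hy] at h1
  exact h1

theorem comm_of_commutator {G : Type*} [Group G] {x y : G} (h : x⁻¹ * y⁻¹ * x * y = 1) : x * y = y * x := by
  have h1 : y * x * (x⁻¹ * y⁻¹ * x * y) = x * y := by group
  rw [h, mul_one] at h1
  exact h1.symm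

/-- the criterion for the relations -/
theorem of_rel {G : Type*} [Group G] [Finite G] {a b c d e s t : G} (R : RelK a b c d e s t) (ht : t ≠ 1)
    (hab : a * b ≠ 1) (hde : d * e ≠ 1) : ¬ Cfsg.PRankLE 3 2 G := by
  have ia : a⁻¹ = a := inv_eq_of_mul_eq_one_left (by rw [← pow_two]; exact R.a2)
  have ib : b⁻¹ = b := inv_eq_of_mul_eq_one_left (by rw [← pow_two]; exact R.b2)
  have id : d⁻¹ = d := inv_eq_of_mul_eq_one_left (by rw [← pow_two]; exact R.d2)
  have ie : e⁻¹ = e := inv_eq_of_mul_eq_one_left (by rw [← pow_two]; exact R.e2)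
  have ta : Commute t a := comm_of_commutator R.ta
  have tb : Commute t b := comm_of_commutator R.tb
  have td : Commute t d := comm_of_commutator R.td
  have te : Commute t e := comm_of_commutator R.te
  have ae : Commute a e := comm_of_sq R.a2 R.e2 R.ae2
  have bd : Commute b d := comm_of_sq R.b2 R.d2 R.bd2
  have be : Commute b e := comm_of_sq R.b2 R.e2 R.be2
  have ad : Commute a d := by
    have h1 : a = (c * d) ^ 4 := mul_inv_eq_one.1 R.acd
    have h2 : d * (c * d) * d⁻¹ = (c * d)⁻¹ := by
      have ic : c⁻¹ = c := inv_eq_of_mul_eq_one_left (by rw [← pow_two]; exact R.c2)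
      rw [mul_inv_rev, ic, id]
      calc d * (c * d) * d = d * c * (d * d) := by group
        _ = d * c := by rw [← pow_two, R.d2, mul_one]
    have h3 : d * a * d⁻¹ = a⁻¹ := by
      rw [h1, ← conj_pow, h2, inv_pow]
    rw [ia] at h3
    have h4 : d * a = a * d := by
      rw [mul_inv_eq_iff_eq_mul] at h3
      exact h3
    exact h4.symm
  have cj : ∀ {k z : G}, Commute k z → k * z * k⁻¹ = z := fun h => by rw [h.eq, mul_inv_cancel_right]
  refine E27.not_rank (x := t) (y := a * b) (w := d * e) (b := a) (c := d) R.t3 R.ab3 R.de3 ht hab hde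
    (ta.mul_right tb).eq (td.mul_right te).eq ((ad.mul_right ae).mul_left (bd.mul_right be)).eq (cj ta.symm) ?_
    (cj td.symm) (cj (ad.symm.mul_right bd.symm)) ?_
  · rw [mul_inv_rev, ia, ib]
    calc a * (a * b) * a = (a * a) * (b * a) := by group
      _ = b * a := by rw [← pow_two, R.a2, one_mul]
  · rw [mul_inv_rev, id, ie]
    calc d * (d * e) * d = (d * d) * (e * d) := by group
      _ = e * d := by rw [← pow_two, R.d2, one_mul]

set_option maxRecDepth 100000 in
theorem t_ne : Nat.beq (evN false (.g .t)) (evN false .one) = false := by decide +kernel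

set_option maxRecDepth 100000 in
theorem ab_ne : Nat.beq (evN false (.mul (.g .a) (.g .b))) (evN false .one) = false := by decide +kernel

set_option maxRecDepth 100000 in
theorem de_ne : Nat.beq (evN false (.mul (.g .d) (.g .e))) (evN false .one) = false := by decide +kernel

theorem not_rank (G : Type*) [Group G] [Finite G] (e : G ≃* Cfsg.Spor.Th) : ¬ Cfsg.PRankLE 3 2 G := by
  have hf : Finite Cfsg.Spor.Th := Finite.of_equiv G e.toEquiv
  refine fun h => of_rel rel_th.K ?_ ?_ ?_ (E27.prank_of_injective e.symm.toMonoidHom e.symm.injective h)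
  · intro h0
    have h1 := congrArg rho h0
    rw [map_one, rho_of] at h1
    exact evG_ne t_ne h1
  · intro h0
    have h1 := congrArg rho h0
    rw [map_one, map_mul, rho_of, rho_of] at h1
    exact evG_ne ab_ne h1
  · intro h0
    have h1 := congrArg rho h0
    rw [map_one, map_mul, rho_of, rho_of] at h1
    exact evG_ne de_ne h1

/-- **Row Th of the table of S1731.** -/
theorem row_th (G : Type*) [Group G] [Finite G] (hG : Cfsg.Spor.IsoTh G) : ¬ Cfsg.PRankLE 3 2 G := by
  obtain ⟨e⟩ := hG
  exact not_rank G e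

end Cfsg.Agent.Omega.Quasithin.Row.Th
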